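import Cfsg.Agent.Lib.BrauerPairs.Fusion
import Mathlib

/-!
# Centric subgroups of the fusion system of a block
-/

set_option autoImplicit false

namespace Cfsg.Agent.Lib.BrauerPairs

open Cfsg
open Cfsg.Agent.Lib

universe u

variable {G : Type u} [Group G] {M : Ideal AlgInt} {p : ℕ}

theorem map_inf_centralizer_conj (Q : Subgroup G) (x : G) :
    (Q ⊓ Subgroup.centralizer (Q : Set G)).map (MulAut.conj x).toMonoidHom =
      Q.map (MulAut.conj x).toMonoidHom ⊓
        Subgroup.centralizer ((Q.map (MulAut.conj x).toMonoidHom : Subgroup G) : Set G) := by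
  ext y
  rw [mem_map_conj, Subgroup.mem_inf, Subgroup.mem_inf, mem_map_conj]
  refine and_congr Iff.rfl ⟨fun h => ?_, fun h => ?_⟩
  · have := (centEquiv Q x ⟨_, h⟩).2
    rwa [coe_centEquiv, show x * (x⁻¹ * y * x) * x⁻¹ = y by group] at this
  · have := ((centEquiv Q x).symm ⟨y, h⟩).2
    rwa [coe_centEquiv_symm] at this

variable [Finite G] [M.IsPrime] {B : Set (IrrCharacter G)} {b : BrauerPairIdx G}
  {F : FusionSystem b.1}

/-- Centric means that the centre is a defect group. -/
theorem isCentric_iff_defect (hM : IsPModular p M) (hF : IsBlockFusionSystemOn p M B b.1 b.2 F)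
    {a : BrauerPairIdx G} (ha : PairLE p M a b) :
    F.IsCentric a.1 ↔ IsDefectGroup p M a.2
      ((a.1 ⊓ Subgroup.centralizer (a.1 : Set G)).subgroupOf
        (Subgroup.centralizer (a.1 : Set G))) := by
  have hb : IsPair p M b := hF.1.1.1
  have hba := (IsPair.of_pairLE hb ha).2
  have hcard : Nat.card ((a.1 ⊓ Subgroup.centralizer (a.1 : Set G)).subgroupOf
      (Subgroup.centralizer (a.1 : Set G))) =
      Nat.card ↥(a.1 ⊓ Subgroup.centralizer (a.1 : Set G)) :=
    Nat.card_congr (Subgroup.subgroupOfEquivOfLe inf_le_right).toEquiv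
  have hmin : ∀ x : G, PairLE p M (conjPair x a) b →
      Nat.card ↥(a.1 ⊓ Subgroup.centralizer (a.1 : Set G)) =
        Nat.card ↥((conjPair x a).1 ⊓ Subgroup.centralizer ((conjPair x a).1 : Set G)) ∧
      (conjPair x a).1 ⊓ Subgroup.centralizer ((conjPair x a).1 : Set G) ≤
        b.1 ⊓ Subgroup.centralizer ((conjPair x a).1 : Set G) := fun x hx =>
    ⟨by rw [conjPair_fst, ← map_inf_centralizer_conj, card_map_conj],
      inf_le_inf_right _ (pairLE_fst_le hx)⟩
  constructor
  · rintro ⟨-, hc⟩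
    have heq : ∀ x : G, PairLE p M (conjPair x a) b →
        Nat.card ↥(b.1 ⊓ Subgroup.centralizer ((conjPair x a).1 : Set G)) =
          Nat.card ↥(a.1 ⊓ Subgroup.centralizer (a.1 : Set G)) := fun x hx => by
      rw [(hmin x hx).1]
      refine congrArg (fun H : Subgroup G => Nat.card H) (le_antisymm ?_ (hmin x hx).2)
      exact le_inf (hc _ ((isConj_iff_pair hM hF ha).2 ⟨x, hx, rfl⟩)) inf_le_right
    have h1 := heq 1 (by rwa [conjPair_one hba])
    rw [conjPair_one hba] at h1
    have heq1 : a.1 ⊓ Subgroup.centralizer (a.1 : Set G) =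
        b.1 ⊓ Subgroup.centralizer (a.1 : Set G) :=
      Subgroup.eq_of_le_of_card_ge (inf_le_inf_right _ (pairLE_fst_le ha)) h1.le
    rw [heq1, isDefectGroup_inf_centralizer_iff hM hF.1 ha]
    exact fun x hx => ((heq x hx).trans h1.symm).le
  · intro hD
    refine ⟨pairLE_fst_le ha, fun R hR => ?_⟩
    obtain ⟨x, hx, rfl⟩ := (isConj_iff_pair hM hF ha).1 hR
    have h1 : Nat.card ↥(b.1 ⊓ Subgroup.centralizer ((conjPair x a).1 : Set G)) ≤
        Nat.card ↥((conjPair x a).1 ⊓ Subgroup.centralizer ((conjPair x a).1 : Set G)) :=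
      ((card_inf_centralizer_le hM hb hba hx hD).trans hcard.le).trans (hmin x hx).1.le
    exact (Subgroup.eq_of_le_of_card_ge (hmin x hx).2 h1).ge.trans inf_le_left

end Cfsg.Agent.Lib.BrauerPairs
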