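import Cfsg.Agent.Lib.BrauerPairs.LocalInertial
import Cfsg.Agent.Lib.BrauerPairs.Saturation
import Mathlib

/-!
# The inertial quotient of a block with cyclic defect group acts freely
-/

set_option autoImplicit false

namespace Cfsg.Agent.Lib.BrauerPairs.CyclicInertia

open Cfsg
open Cfsg.Agent.Lib
open Cfsg.Agent.Lib.BrauerPairs

universe u

variable {G : Type u} [Group G] [Finite G] {M : Ideal AlgInt} [M.IsPrime] {p : ℕ}
  {B : Set (IrrCharacter G)} {b : BrauerPairIdx G}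

/-- The automorphisms of an abelian maximal pair form a group of order prime to `p`. -/
theorem exists_pow_mem_centralizer (hM : IsPModular p M)
    (hmax : IsMaximalBrauerPair p M B b.1 b.2)
    (hab : ∀ x ∈ b.1, ∀ y ∈ b.1, x * y = y * x) :
    ∃ N : ℕ, ¬ p ∣ N ∧ ∀ g ∈ pairStab hmax.1.1.2, g ^ N ∈ Subgroup.centralizer (b.1 : Set G) := by
  haveI := Fact.mk hM.1
  have hF := isBlockFusionSystemOn_blockSystem hM hmax
  have h := (Fusion.isFullyAutomized_iff.1 (centralized_automized_of_normalized hM hF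
    (a := b) Relation.ReflTransGen.refl (Fusion.isFullyNormalized_top _)).2).2
  rw [autGroup_eq hM hF Relation.ReflTransGen.refl hmax.1.1.2] at h
  have hbot : autInducedBy b.1 b.1 = (⊥ : Subgroup (MulAut b.1)) := by
    refine (Subgroup.eq_bot_iff_forall _).2 fun α hα => ?_
    obtain ⟨g, hg, hga⟩ := Fusion.mem_autInducedBy.1 hα
    refine MulEquiv.ext fun x => Subtype.ext ?_
    rw [hga, hab g hg x x.2, mul_inv_cancel_right]
    rfl
  rw [hbot] at h
  refine ⟨Nat.card (autInducedBy (pairStab hmax.1.1.2) b.1),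
    by rw [← Subgroup.relIndex_bot_left]; exact h.2.2, fun g hg => ?_⟩
  have hgN : g ∈ Subgroup.normalizer (b.1 : Set G) := ((mem_pairStab_iff _).1 hg).1
  have hmem : Fusion.conjAut b.1 g hgN ∈ autInducedBy (pairStab hmax.1.1.2) b.1 :=
    Fusion.mem_autInducedBy.2 ⟨g, hg, fun x => rfl⟩
  have h1 : Fusion.conjAut b.1 g hgN ^
      Nat.card (autInducedBy (pairStab hmax.1.1.2) b.1) = 1 :=
    congrArg Subtype.val (pow_card_eq_one' (x := (⟨_, hmem⟩ : autInducedBy _ b.1)))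
  simp only [Fusion.conjAut, ← map_pow] at h1
  refine Subgroup.mem_centralizer_iff.2 fun x hx => ?_
  have h2 := congrArg Subtype.val (DFunLike.congr_fun h1 ⟨x, hx⟩)
  exact (mul_inv_eq_iff_eq_mul.1 h2).symm

omit [Finite G] [M.IsPrime] in
/-- A map raising a generator to the power `m` raises every power of it to that power. -/
theorem conj_eq_pow {z : G} {g : G} {m : ℕ} (h : g * z * g⁻¹ = z ^ m) {x : G}
    (hx : x ∈ Subgroup.zpowers z) : g * x * g⁻¹ = x ^ m := by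
  obtain ⟨i, rfl⟩ := hx
  rw [← conj_zpow, h, ← zpow_natCast, ← zpow_natCast, ← zpow_mul, ← zpow_mul, mul_comm]

theorem exists_conj_pow {P : Subgroup G} (hcyc : IsCyclic P) {g : G}
    (hg : g ∈ Subgroup.normalizer (P : Set G)) : ∃ m : ℕ, ∀ x ∈ P, g * x * g⁻¹ = x ^ m := by
  obtain ⟨z, hz⟩ := (Subgroup.isCyclic_iff_exists_zpowers_eq_top P).1 hcyc
  have h1 : g * z * g⁻¹ ∈ Subgroup.zpowers z := hz ▸
    (Subgroup.mem_normalizer_iff.1 hg z).1 (hz ▸ Subgroup.mem_zpowers z)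
  obtain ⟨m, hm⟩ := mem_powers_iff_mem_zpowers.2 h1
  exact ⟨m, fun x hx => conj_eq_pow hm.symm (hz.symm ▸ hx)⟩

omit [Finite G] [M.IsPrime] in
/-- An element acting on a cyclic `p`-group with order prime to `p` and fixing an element of
order `p` centralises it. -/
theorem mem_centralizer_of_fix [Fact p.Prime] {P : Subgroup G} (hP : IsPGroup p P) {g : G} {m N : ℕ}
    (hm : ∀ x ∈ P, g * x * g⁻¹ = x ^ m) (hN : ¬ p ∣ N)
    (hgN : g ^ N ∈ Subgroup.centralizer (P : Set G)) {y : G} (hy : y ∈ P) (hyo : orderOf y = p)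
    (hgy : g * y * g⁻¹ = y) : g ∈ Subgroup.centralizer (P : Set G) := by
  have hpp : p.Prime := Fact.out
  have hmod : (p : ℤ) ∣ (m : ℤ) - 1 := by
    have h1 : y ^ ((m : ℤ) - 1) = 1 := by
      rw [zpow_sub, zpow_natCast, zpow_one, ← hm y hy, hgy, mul_inv_cancel]
    rw [← hyo]
    exact orderOf_dvd_iff_zpow_eq_one.2 h1
  have hiter : ∀ (x : G), x ∈ P → ∀ k : ℕ, g ^ k * x * (g ^ k)⁻¹ = x ^ (m ^ k) := by
    intro x hx k
    induction k with
    | zero => simp
    | succ k ih =>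
      rw [pow_succ', pow_succ (m : ℕ), pow_mul,
        show g * g ^ k * x * (g * g ^ k)⁻¹ = g * (g ^ k * x * (g ^ k)⁻¹) * g⁻¹ by group, ih,
        hm _ (pow_mem hx _)]
  refine Subgroup.mem_centralizer_iff.2 fun x hx => ?_
  suffices h : g * x * g⁻¹ = x from (mul_inv_eq_iff_eq_mul.1 h).symm
  obtain ⟨k, hk⟩ := hP ⟨x, hx⟩
  have hxk : x ^ p ^ k = 1 := congrArg Subtype.val hk
  have hfixN : g ^ N * x * (g ^ N)⁻¹ = x := by
    rw [← Subgroup.mem_centralizer_iff.1 hgN x hx, mul_inv_cancel_right]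
  have hfixp : g ^ p ^ k * x * (g ^ p ^ k)⁻¹ = x := by
    have h1 : ((p ^ (k + 1) : ℕ) : ℤ) ∣ (m : ℤ) ^ p ^ k - 1 := by
      have := dvd_sub_pow_of_dvd_sub (R := ℤ) hmod k
      simpa using this
    have h2 : ((orderOf x : ℕ) : ℤ) ∣ (m : ℤ) ^ p ^ k - 1 :=
      (Int.natCast_dvd_natCast.2 ((orderOf_dvd_of_pow_eq_one hxk).trans
        (pow_dvd_pow p k.le_succ))).trans h1
    have h3 := orderOf_dvd_iff_zpow_eq_one.1 h2
    rw [zpow_sub, zpow_one, mul_inv_eq_one, ← Nat.cast_pow, zpow_natCast] at h3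
    rw [hiter x hx, h3]
  have hcop : Nat.Coprime N (p ^ k) :=
    (Nat.Coprime.pow_left k (hpp.coprime_iff_not_dvd.2 hN)).symm
  let act : ConjAct G := ConjAct.toConjAct g
  have hstab : ∀ n : ℕ, g ^ n * x * (g ^ n)⁻¹ = x → act ^ n ∈ MulAction.stabilizer (ConjAct G) x :=
    fun n h => by
      rw [MulAction.mem_stabilizer_iff, ← map_pow, ConjAct.toConjAct_smul]
      exact h
  have h4 : act ∈ MulAction.stabilizer (ConjAct G) x := by
    have h5 : act = (act ^ N) ^ (N.gcdA (p ^ k)) * (act ^ (p ^ k)) ^ (N.gcdB (p ^ k)) := by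
      rw [← zpow_natCast, ← zpow_natCast, ← zpow_mul, ← zpow_mul, ← zpow_add,
        ← Nat.gcd_eq_gcd_ab, hcop.gcd_eq_one]
      simp
    rw [h5]
    exact mul_mem (zpow_mem (hstab N hfixN) _) (zpow_mem (hstab _ hfixp) _)
  rwa [MulAction.mem_stabilizer_iff, ConjAct.toConjAct_smul] at h4

/-- An element of the stabiliser centralising a nontrivial subgroup centralises the pair. -/
theorem mem_centralizer_of_stab (hM : IsPModular p M)
    (hmax : IsMaximalBrauerPair p M B b.1 b.2) (hcyc : IsCyclic b.1) {Q : Subgroup G}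
    (hQ : Q ≤ b.1) (hQ1 : Q ≠ ⊥) {g : G} (hg : g ∈ pairStab hmax.1.1.2)
    (hgQ : g ∈ Subgroup.centralizer (Q : Set G)) : g ∈ Subgroup.centralizer (b.1 : Set G) := by
  haveI := Fact.mk hM.1
  have hab : ∀ x ∈ b.1, ∀ y ∈ b.1, x * y = y * x := fun x hx y hy => by
    letI := hcyc.commGroup
    exact congrArg Subtype.val (mul_comm (⟨x, hx⟩ : b.1) ⟨y, hy⟩)
  obtain ⟨N, hN, hpow⟩ := exists_pow_mem_centralizer hM hmax hab
  obtain ⟨m, hm⟩ := exists_conj_pow hcyc ((mem_pairStab_iff _).1 hg).1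
  have hQp : IsPGroup p Q := hmax.1.1.1.to_le hQ
  haveI : Nontrivial Q := (Subgroup.nontrivial_iff_ne_bot Q).2 hQ1
  obtain ⟨⟨y, hy⟩, hyo⟩ := exists_prime_orderOf_dvd_card' (G := Q) p (by
    obtain ⟨n, hn⟩ := IsPGroup.iff_card.1 hQp
    have h1 : 1 < Nat.card Q := Finite.one_lt_card
    rw [hn] at h1 ⊢
    exact dvd_pow_self p fun h0 => by rw [h0, pow_zero] at h1; omega)
  rw [Subgroup.orderOf_mk] at hyo
  refine mem_centralizer_of_fix hmax.1.1.1 hm hN (hpow g hg) (hQ hy) hyo ?_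
  rw [← Subgroup.mem_centralizer_iff.1 hgQ y hy, mul_inv_cancel_right]

/-- The stabiliser of the pair normalises every subgroup of it. -/
theorem mem_normalizer_of_stab (hmax : IsMaximalBrauerPair p M B b.1 b.2) (hcyc : IsCyclic b.1)
    {Q : Subgroup G} (hQ : Q ≤ b.1) {g : G} (hg : g ∈ pairStab hmax.1.1.2) :
    g ∈ Subgroup.normalizer (Q : Set G) := by
  obtain ⟨m, hm⟩ := exists_conj_pow hcyc ((mem_pairStab_iff _).1 hg).1
  refine map_conj_eq_iff_mem_normalizer.1 (Subgroup.eq_of_le_of_card_ge ?_ (card_map_conj Q g).ge)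
  rintro _ ⟨x, hx, rfl⟩
  show g * x * g⁻¹ ∈ Q
  rw [hm x (hQ hx)]
  exact pow_mem hx m

end Cfsg.Agent.Lib.BrauerPairs.CyclicInertia
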