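import Cfsg.Agent.Lib.BrauerPairs.MajorNonvanishing
import Cfsg.Agent.Lib.Blocks.CoveringDefect
import Cfsg.Agent.Lib.Chars.Ops
import Mathlib

/-!
# Restriction to a normal subgroup of `p`-power index below an abelian defect group
-/

set_option autoImplicit false

namespace Cfsg.Agent.Lib.BrauerPairs.AbelianDefectRestrict

open Cfsg
open Cfsg.Agent.Lib
open Cfsg.Agent.Lib.Clifford (resFun)
open scoped ComplexConjugate

universe u

variable {G : Type u} [Group G] [Fintype G] {N : Subgroup G} [N.Normal] [Fintype N]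

/-- A character twisted trivially by no nontrivial linear character of an abelian quotient has
norm one on the kernel. -/
theorem classInner_resFun_self (hcomm : ∀ a b : G ⧸ N, a * b = b * a) (χ : IrrCharacter G)
    (htw : ∀ lam : G ⧸ N →* ℂˣ, (∀ g : G, (lam g : ℂ) * (χ : G → ℂ) g = (χ : G → ℂ) g) → lam = 1) :
    classInner (resFun N (χ : G → ℂ)) (resFun N (χ : G → ℂ)) = 1 := by
  classical
  letI : CommGroup (G ⧸ N) := { (inferInstance : Group (G ⧸ N)) with mul_comm := hcomm }
  haveI : Finite (G ⧸ N →* ℂˣ) := Finite.of_injective _ Chars.linIrr_injective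
  haveI := Fintype.ofFinite (G ⧸ N →* ℂˣ)
  have hcard : Fintype.card (G ⧸ N →* ℂˣ) = N.index := by
    rw [Fintype.card_eq_nat_card, Chars.card_monoidHom_units,
      show commutator (G ⧸ N) = ⊥ from (commutator_eq_bot_iff_center_eq_top _).2
        (eq_top_iff.2 fun a _ => Subgroup.mem_center_iff.2 fun b => hcomm b a), Subgroup.index_bot]
    rfl
  have horth : ∀ g : G, ∑ lam : G ⧸ N →* ℂˣ, (lam g : ℂ) = if g ∈ N then (N.index : ℂ) else 0 := by
    intro g
    split_ifs with hg
    · simp [(QuotientGroup.eq_one_iff g).2 hg, hcard]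
    · have : HasEnoughRootsOfUnity ℂ (Monoid.exponent (G ⧸ N)) := inferInstance
      obtain ⟨l₀, hl₀⟩ := CommGroup.exists_apply_ne_one_of_hasEnoughRootsOfUnity (G ⧸ N) ℂ
        (mt (QuotientGroup.eq_one_iff g).1 hg)
      refine eq_zero_of_mul_eq_self_left (b := (l₀ g : ℂ)) (fun h => hl₀ (Units.ext h)) ?_
      rw [Finset.mul_sum]
      exact Fintype.sum_bijective (l₀ * ·) (Group.mulLeft_bijective l₀) _ _ fun lam => by simp
  set tw : (G ⧸ N →* ℂˣ) → IrrCharacter G := fun lam =>
    ⟨_, Chars.isIrrCharacter_hom_mul (lam.comp (QuotientGroup.mk' N)) χ.2⟩ with htwdef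
  have h1 : ∑ lam, classInner (tw lam : G → ℂ) (χ : G → ℂ) = 1 := by
    rw [Finset.sum_eq_single (1 : G ⧸ N →* ℂˣ)]
    · rw [show tw 1 = χ from Subtype.ext (funext fun g => by simp [tw])]
      exact Chars.classInner_irr_self χ
    · intro lam _ hne
      refine Chars.classInner_irr_of_ne fun h => hne (htw lam fun g => ?_)
      simpa [tw] using congrFun (congrArg Subtype.val h) g
    · simp
  rw [← h1]
  simp only [classInner, tw, MonoidHom.comp_apply, QuotientGroup.mk'_apply]
  rw [← Finset.mul_sum, Finset.sum_comm,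
    Finset.sum_congr rfl fun (g : G) _ => show ∑ lam : G ⧸ N →* ℂˣ,
      (lam g : ℂ) * (χ : G → ℂ) g * conj ((χ : G → ℂ) g) =
        (if g ∈ N then (N.index : ℂ) else 0) * ((χ : G → ℂ) g * conj ((χ : G → ℂ) g)) by
      rw [← horth, Finset.sum_mul]; simp only [mul_assoc],
    Blocks.Covering.sum_eq_sum_normal (N := N) fun g hg => by simp [hg]]
  simp only [SetLike.coe_mem, if_true, ← Finset.mul_sum, Clifford.resFun_apply]
  rw [← mul_assoc, ← N.card_mul_index, Nat.cast_mul, mul_inv, mul_assoc (Nat.card N : ℂ)⁻¹,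
    inv_mul_cancel₀ (Nat.cast_ne_zero.2 Subgroup.FiniteIndex.index_ne_zero), mul_one]

omit [N.Normal] in
/-- A character of norm one is irreducible. -/
theorem exists_irr_of_norm_one {f : N → ℂ} (hf : IsCharacter N f) (h : classInner f f = 1)
    (h1 : ∃ r : ℕ, f 1 = r) : ∃ θ : IrrCharacter N, f = (θ : N → ℂ) := by
  classical
  obtain ⟨m, hm⟩ := Chars.isCharacter_exists_nat_decomp hf
  rw [hm, Chars.classInner_sum_smul_sum_smul] at h
  simp only [Complex.conj_natCast] at h
  have h' : ∑ θ, m θ * m θ = 1 := by exact_mod_cast h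
  obtain ⟨θ, -, hθ⟩ := Finset.exists_ne_zero_of_sum_ne_zero (h'.trans_ne one_ne_zero)
  have hle := Finset.single_le_sum (f := fun θ => m θ * m θ) (fun _ _ => Nat.zero_le _)
    (Finset.mem_univ θ)
  rw [h'] at hle
  have hθ1 : m θ = 1 := by
    have := Nat.pos_of_ne_zero hθ
    nlinarith
  refine ⟨θ, ?_⟩
  rw [hm, Finset.sum_eq_single θ]
  · simp [hθ1]
  · intro φ _ hne
    have := Finset.add_le_sum (f := fun θ => m θ * m θ) (fun _ _ => Nat.zero_le _)
      (Finset.mem_univ θ) (Finset.mem_univ φ) hne.symm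
    rw [h', hθ1] at this
    have hz : m φ = 0 := by nlinarith
    simp [hz]
  · simp

variable {M : Ideal AlgInt} [M.IsPrime] {p : ℕ} [Fact p.Prime]

/-- The block of `G` over a stable block of a normal subgroup of `p`-power index. -/
theorem blockCoeff_eq_of_covers (hM : IsPModular p M) (hidx : ∃ k : ℕ, N.index = p ^ k)
    {b : Set (IrrCharacter N)} (hb : IsPBlock M b) (hst : ∀ g : G, StabilizesBlock N b g)
    {B : Set (IrrCharacter G)} (hB : IsPBlock M B) {χ : IrrCharacter G} (hχ : χ ∈ B)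
    {θ : IrrCharacter N} (hθ : θ ∈ b)
    (hcon : classInner (resFun N (χ : G → ℂ)) (θ : N → ℂ) ≠ 0) (g : G) :
    blockCoeff B g = subgroupBlockCoeff N b g := by
  classical
  obtain ⟨B', hB', hco⟩ := Blocks.Graded.exists_block_coverWeight hM hidx hb
  have h := Blocks.Covering.sum_coverWeight_mul_chi b χ θ hcon
  rw [if_pos (Blocks.Covering.mem_conjClosure_self hθ)] at h
  have hmem : χ ∈ B' := by
    by_contra hn
    have h2 := Blocks.omega_idemC B' χ
    rw [if_neg hn, Blocks.omega_eq_sum] at h2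
    refine zero_ne_one (α := ℂ) (h2.symm.trans (Eq.trans ?_ h))
    simp only [Blocks.idemC, Blocks.coeff_ofFun, hco, mul_div_assoc]
  rw [Blocks.isPBlock_eq_of_mem hB hB' hχ hmem, hco,
    Blocks.Graded.coverWeight_eq_of_stable hst]

/-- The members of a block with abelian defect group restrict irreducibly. -/
theorem exists_restrict_eq (hM : IsPModular p M) (hidx : ∃ k : ℕ, N.index = p ^ k)
    {B : Set (IrrCharacter G)} (hB : IsPBlock M B) {P : Subgroup G}
    (hP : IsDefectGroup p M B P) (hab : ∀ x ∈ P, ∀ y ∈ P, x * y = y * x) (hNP : N ⊔ P = ⊤)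
    {χ : IrrCharacter G} (hχ : χ ∈ B) :
    ∃ θ : IrrCharacter N, resFun N (χ : G → ℂ) = (θ : N → ℂ) := by
  classical
  have hsur : ∀ a : G ⧸ N, ∃ x ∈ P, (x : G ⧸ N) = a := fun a => by
    obtain ⟨g, rfl⟩ := QuotientGroup.mk_surjective a
    obtain ⟨n, hn, x, hx, rfl⟩ := Subgroup.mem_sup_of_normal_left.1
      (hNP ▸ Subgroup.mem_top g : g ∈ N ⊔ P)
    exact ⟨x, hx, by simp [(QuotientGroup.eq_one_iff n).2 hn]⟩
  have hcomm : ∀ a b : G ⧸ N, a * b = b * a := fun a b => by
    obtain ⟨x, hx, rfl⟩ := hsur a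
    obtain ⟨y, hy, rfl⟩ := hsur b
    exact congrArg QuotientGroup.mk (hab x hx y hy)
  have hch := Chars.isCharacter_restrict N (Chars.irr_isCharacter χ)
  refine exists_irr_of_norm_one hch (classInner_resFun_self hcomm χ fun lam hlam => ?_) ?_
  · refine MonoidHom.ext fun a => ?_
    obtain ⟨x, hx, rfl⟩ := hsur a
    obtain ⟨y, hy, -, hne⟩ := MajorNonvanishing.exists_apply_mul_ne_zero hM hB hP hab hx hχ
    have h1 := mul_eq_right₀ hne |>.1 (hlam (x * y))
    rw [QuotientGroup.mk_mul,
      (QuotientGroup.eq_one_iff y).2 (Blocks.Covering.mem_of_pRegular_of_index N hidx hy),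
      mul_one] at h1
    exact Units.ext h1
  · exact ⟨charDegree (χ : G → ℂ), (Blocks.HeightZero.charDegree_eq χ).1.symm⟩

end Cfsg.Agent.Lib.BrauerPairs.AbelianDefectRestrict
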