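import Cfsg.Agent.Lib.BrauerPairs.Centric
import Cfsg.Agent.Lib.BrauerPairs.KernelCore
import Mathlib

/-!
# The block of `Q·C_G(Q)` at a stable centric pair
-/

set_option autoImplicit false

namespace Cfsg.Agent.Lib.BrauerPairs.CentricNilpotent

open Cfsg
open Cfsg.Agent.Lib
open Cfsg.Agent.Lib.BrauerMap (core)
open Cfsg.Agent.Lib.BrauerPairs
open scoped Pointwise

universe u

variable {G : Type u} [Group G] [Finite G] {M : Ideal AlgInt} [M.IsPrime] {p : ℕ}

/-- A stable pair on a normal subgroup has the idempotent of its block. -/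
theorem blockCoeff_eq_of_stable (hM : IsPModular p M) {P : Subgroup G} [P.Normal]
    {B : Set (IrrCharacter G)} {e : Set (IrrCharacter (Subgroup.centralizer (P : Set G)))}
    (hBe : IsBrauerPairOf p M B P e)
    (hst : ∀ x : G, StabilizesBlock (Subgroup.centralizer (P : Set G)) e x) (g : G) :
    blockCoeff B g = subgroupBlockCoeff (Subgroup.centralizer (P : Set G)) e g := by
  cases nonempty_fintype G
  have h := BrauerMap.blockCoeff_eq_average hM hBe.1.1 hBe (T := ⊤)
    (fun x => ⟨fun _ => hst x, fun _ => Subgroup.mem_top x⟩) g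
  have hconj : ∀ x : G, subgroupBlockCoeff (Subgroup.centralizer (P : Set G)) e (x⁻¹ * g * x) =
      subgroupBlockCoeff (Subgroup.centralizer (P : Set G)) e g := by
    intro x
    have := BrauerMap.subgroupBlockCoeff_conj_of_stabilizes hBe.1.2 (hst x) (x⁻¹ * g * x)
    rw [← this]
    congr 1
    group
  rw [h, finsum_eq_sum_of_fintype, Finset.sum_congr rfl fun x _ => hconj x, Finset.sum_const,
    Finset.card_univ, nsmul_eq_mul, Subgroup.card_top, Fintype.card_eq_nat_card,
    inv_mul_cancel_left₀ (Nat.cast_ne_zero.mpr Nat.card_pos.ne')]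

/-- The idempotent of the transported block. -/
theorem subgroupBlockCoeff_transport {L Q : Subgroup G} {Q' : Subgroup L}
    (hQ : Q'.map L.subtype = Q) (hC : Subgroup.centralizer (Q : Set G) ≤ L)
    (f : Set (IrrCharacter (Subgroup.centralizer (Q : Set G)))) (t : L) :
    subgroupBlockCoeff (Subgroup.centralizer (Q' : Set L))
        (Chars.irrCongr (KernelCore.centEquivSub hQ hC).symm '' f) t =
      subgroupBlockCoeff (Subgroup.centralizer (Q : Set G)) f (t : G) := by
  by_cases ht : (t : G) ∈ Subgroup.centralizer (Q : Set G)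
  · have hm : t ∈ Subgroup.centralizer (Q' : Set L) := (KernelCore.centEquivSub hQ hC ⟨t, ht⟩).2
    rw [show t = ((⟨t, hm⟩ : Subgroup.centralizer (Q' : Set L)) : L) from rfl,
      BrauerMap.subgroupBlockCoeff_of_mem, BrauerMap.blockCoeff_image_irrCongr]
    exact (BrauerMap.subgroupBlockCoeff_of_mem _ f _).symm
  · have hm : t ∉ Subgroup.centralizer (Q' : Set L) := fun hm =>
      ht ((KernelCore.centEquivSub hQ hC).symm ⟨t, hm⟩).2
    rw [BrauerMap.subgroupBlockCoeff_of_notMem _ _ hm,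
      BrauerMap.subgroupBlockCoeff_of_notMem _ _ ht]

/-- The block of `Q·C_G(Q)` over a pair with central defect is nilpotent. -/
theorem exists_nilpotent (hM : IsPModular p M) {Q : Subgroup G} (hQp : IsPGroup p Q)
    {f : Set (IrrCharacter (Subgroup.centralizer (Q : Set G)))} (hf : IsPBlock M f)
    (hZ : IsDefectGroup p M f ((Q ⊓ Subgroup.centralizer (Q : Set G)).subgroupOf
      (Subgroup.centralizer (Q : Set G)))) :
    ∃ F' : Set (IrrCharacter (Q ⊔ Subgroup.centralizer (Q : Set G) : Subgroup G)),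
      IsPBlock M F' ∧ (∀ t : (Q ⊔ Subgroup.centralizer (Q : Set G) : Subgroup G),
        blockCoeff F' t = subgroupBlockCoeff (Subgroup.centralizer (Q : Set G)) f (t : G)) ∧
      IsNilpotentBlock p M F' := by
  classical
  haveI := Fact.mk hM.1
  set L := Q ⊔ Subgroup.centralizer (Q : Set G) with hL
  have hQL : Q ≤ L := le_sup_left
  have hC : Subgroup.centralizer (Q : Set G) ≤ L := le_sup_right
  have hLN : L ≤ Subgroup.normalizer (Q : Set G) := KernelCore.core_le_normalizer Q
  haveI hn : (Q.subgroupOf L).Normal := (Subgroup.normal_subgroupOf_iff_le_normalizer hQL).2 hLN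
  have hQ := Subgroup.map_subgroupOf_eq_of_le hQL
  set c := KernelCore.centEquivSub hQ hC with hc
  have he : IsBrauerPair p M (Q.subgroupOf L) (Chars.irrCongr c.symm '' f) :=
    ⟨hQp.of_equiv (Subgroup.subgroupOfEquivOfLe hQL).symm, BrauerMap.isPBlock_image_irrCongr _ hf⟩
  obtain ⟨F', hF', -⟩ := BrauerMap.existsUnique_isBrauerPairOf hM he
  have hsup : (⊤ : Subgroup L) ≤
      Q.subgroupOf L ⊔ Subgroup.centralizer ((Q.subgroupOf L : Subgroup L) : Set L) := by
    rintro ⟨x, hx⟩ -
    have hx' : x ∈ ((Q : Set G) * (Subgroup.centralizer (Q : Set G) : Set G)) := by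
      rw [← Subgroup.coe_mul_of_right_le_normalizer_left Q _ (Subgroup.centralizer_le_normalizer _)]
      exact hx
    obtain ⟨q, hq, y, hy, hqy⟩ := Set.mem_mul.1 hx'
    rw [show (⟨x, hx⟩ : L) = ⟨q, hQL hq⟩ * ⟨y, hC hy⟩ from Subtype.ext hqy.symm]
    exact mul_mem (Subgroup.mem_sup_left (Subgroup.mem_subgroupOf.2 hq))
      (Subgroup.mem_sup_right (c ⟨y, hy⟩).2)
  have hst : ∀ t : L, StabilizesBlock (Subgroup.centralizer ((Q.subgroupOf L : Subgroup L) : Set L))
      (Chars.irrCongr c.symm '' f) t := fun t =>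
    ((mem_pairStab_iff_stabilizesBlock (a := (⟨_, _⟩ : BrauerPairIdx L)) he.2).1
      (core_le_pairStab (a := (⟨_, _⟩ : BrauerPairIdx L)) he.2 (hsup (Subgroup.mem_top t)))).2
  have hcoeff : ∀ t : L,
      blockCoeff F' t = subgroupBlockCoeff (Subgroup.centralizer (Q : Set G)) f (t : G) := fun t =>
    (blockCoeff_eq_of_stable hM hF' hst t).trans (subgroupBlockCoeff_transport hQ hC f t)
  refine ⟨F', hF'.2.1, hcoeff, hF'.2.1, ?_⟩
  -- the defect group is `Q`
  obtain ⟨D, hD⟩ := Blocks.exists_isDefectGroup (p := p) hF'.2.1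
  obtain ⟨t, ht, htD⟩ := Blocks.isDefectGroup_iff.1 hD
  have hQD : Q.subgroupOf L ≤ D := Blocks.normal_le_defectGroup hM he.1 hF'.2.1 hD
  have htC : (t : G) ∈ Subgroup.centralizer (Q : Set G) := by
    by_contra h
    apply ht.2.1
    rw [hcoeff t, BrauerMap.subgroupBlockCoeff_of_notMem _ _ h]
    exact Blocks.memLocalIdeal_zero
  set X := D.map L.subtype ⊓ Subgroup.centralizer (Q : Set G) with hX
  have htX : (t : G) ∈ Subgroup.centralizer (X : Set G) := by
    refine Subgroup.mem_centralizer_iff.2 ?_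
    rintro _ ⟨⟨d, hd, rfl⟩, -⟩
    exact congrArg Subtype.val
      (Subgroup.mem_centralizer_iff.1 (Blocks.le_centralizer_singleton_iff.1 htD.2.1) d hd)
  have hXp : IsPGroup p X := (htD.1.map L.subtype).to_le inf_le_left
  have hne : Blocks.residue M ((idemG M (⟨Q, f⟩ : BrauerPairIdx G)).coeff (t : G)) ≠ 0 := by
    rw [residue_idemG_ne_zero_iff (a := (⟨Q, f⟩ : BrauerPairIdx G)) hf, coeffFun, ← hcoeff]
    exact ht.2.1
  obtain ⟨D', hD', hle⟩ := exists_defect_ge_centralizer hM (a := (⟨Q, f⟩ : BrauerPairIdx G)) hf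
    hXp inf_le_right htC htX hne
  obtain ⟨z, hz⟩ := Blocks.isDefectGroup_conjugate hM hf hZ hD'
  have hcard : Nat.card X ≤ Nat.card ↥(Q ⊓ Subgroup.centralizer (Q : Set G)) := by
    refine ((Nat.card_congr (Subgroup.subgroupOfEquivOfLe
      (inf_le_right : X ≤ Subgroup.centralizer (Q : Set G))).toEquiv).ge.trans
      (Subgroup.card_le_of_le hle)).trans ?_
    rw [hz, card_map_conj]
    exact (Nat.card_congr (Subgroup.subgroupOfEquivOfLe inf_le_right).toEquiv).le
  have hXQ : X ≤ Q :=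
    (Subgroup.eq_of_le_of_card_ge
      (inf_le_inf_right _ (hQ.ge.trans (Subgroup.map_mono hQD))) hcard).ge.trans inf_le_left
  have hDQ : D = Q.subgroupOf L := by
    refine le_antisymm (fun d hd => Subgroup.mem_subgroupOf.2 ?_) hQD
    have hd' : (d : G) ∈ ((Q : Set G) * (Subgroup.centralizer (Q : Set G) : Set G)) := by
      rw [← Subgroup.coe_mul_of_right_le_normalizer_left Q _ (Subgroup.centralizer_le_normalizer _)]
      exact d.2
    obtain ⟨q, hq, y, hy, hqy⟩ := Set.mem_mul.1 hd'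
    have hyX : y ∈ X := by
      refine ⟨⟨⟨q, hQL hq⟩⁻¹ * d, mul_mem (inv_mem (hQD (Subgroup.mem_subgroupOf.2 hq))) hd, ?_⟩,
        hy⟩
      simp [← hqy]
    rw [← hqy]
    exact Q.mul_mem hq (hXQ hyX)
  -- every pair lies below `Q`
  intro R g hg x _ _ hreg
  obtain ⟨m, hm, hle'⟩ := exists_isMaximal_above hM (b := (⟨R, g⟩ : BrauerPairIdx L)) hg
  obtain ⟨w, hw⟩ := Blocks.isDefectGroup_conjugate hM hF'.2.1 hD (isDefectGroup_of_isMaximal hM hm)
  have hmQ : m.1 ≤ Q.subgroupOf L := by
    rw [hw, hDQ]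
    rintro _ ⟨q, hq, rfl⟩
    exact hn.conj_mem q hq w
  refine BrauerMap.centralizer_anti ((pairLE_fst_le hle').trans hmQ) ?_
  have hp : IsPGroup p (L ⧸ Subgroup.centralizer ((Q.subgroupOf L : Subgroup L) : Set L)) := by
    refine he.1.of_surjective ((QuotientGroup.mk' _).comp (Q.subgroupOf L).subtype) fun y => ?_
    obtain ⟨y, rfl⟩ := QuotientGroup.mk_surjective y
    have hy : y ∈ ((Q.subgroupOf L : Subgroup L) : Set L) *
        (Subgroup.centralizer ((Q.subgroupOf L : Subgroup L) : Set L) : Set L) := by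
      rw [← Subgroup.coe_mul_of_right_le_normalizer_left (Q.subgroupOf L) _
        (Subgroup.centralizer_le_normalizer _)]
      exact hsup (Subgroup.mem_top y)
    obtain ⟨q, hq, d, hd, rfl⟩ := Set.mem_mul.1 hy
    refine ⟨⟨q, hq⟩, ?_⟩
    simp only [MonoidHom.comp_apply, Subgroup.coe_subtype, QuotientGroup.mk'_apply]
    rw [QuotientGroup.mk_mul, (QuotientGroup.eq_one_iff d).2 hd, mul_one]
  rw [← QuotientGroup.eq_one_iff]
  obtain ⟨k, hk⟩ := hp (x : L ⧸ Subgroup.centralizer ((Q.subgroupOf L : Subgroup L) : Set L))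
  have h1 := Nat.dvd_gcd (orderOf_dvd_of_pow_eq_one hk)
    (orderOf_map_dvd (QuotientGroup.mk' (Subgroup.centralizer
      ((Q.subgroupOf L : Subgroup L) : Set L))) x)
  rw [Nat.Coprime.gcd_eq_one (Nat.Coprime.pow_left k (hM.1.coprime_iff_not_dvd.2 hreg)),
    Nat.dvd_one] at h1
  exact orderOf_eq_one_iff.1 h1

end Cfsg.Agent.Lib.BrauerPairs.CentricNilpotent
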