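import Cfsg.Agent.Lib.BrauerPairs.Block
import Cfsg.Agent.Lib.BrauerPairs.Local
import Cfsg.Agent.Lib.BrauerPairs.StabIndex
import Cfsg.Agent.Lib.BrauerPairs.Elements
import Cfsg.Agent.Lib.BrauerPairs.Saturation
import Cfsg.Agent.Lib.Blocks.DefectProps
import Mathlib

/-!
# The relative trace of the idempotent of a major subsection
-/

set_option autoImplicit false
set_option linter.unusedSectionVars false

namespace Cfsg.Agent.Lib.BrauerPairs.Inertia

open Cfsg MonoidAlgebra
open Cfsg.Agent.Lib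
open Cfsg.Agent.Lib.BrauerPairs
open Cfsg.Agent.Lib.BrauerMap (fixedRing core brHom blockG)
open Cfsg.Agent.Lib.Blocks (localRing residue Residue RCenter toF omegaBar omegaR blockIdem)

universe u

variable {G : Type u} [Group G] [Finite G] {M : Ideal AlgInt} [M.IsPrime] {p : ℕ}

local notation "𝐂" Q => Subgroup.centralizer (SetLike.coe Q)

/-- Conjugate of an element of the group algebra. -/
noncomputable def cj (x : G) (f : MonoidAlgebra (localRing M) G) : MonoidAlgebra (localRing M) G :=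
  Blocks.ofFun fun g => f.coeff (x⁻¹ * g * x)

theorem coeff_cj (x : G) (f : MonoidAlgebra (localRing M) G) (g : G) :
    (cj x f).coeff g = f.coeff (x⁻¹ * g * x) := rfl

theorem cj_eq (x : G) (f : MonoidAlgebra (localRing M) G) :
    cj x f = single x 1 * f * single x⁻¹ 1 := by
  ext g
  simp [coeff_cj, coeff_single_mul_apply, coeff_mul_single_apply, mul_assoc]

theorem cj_mul_self (x : G) {f : MonoidAlgebra (localRing M) G} (hf : f * f = f) :
    cj x f * cj x f = cj x f := by
  have h1 : single x⁻¹ (1 : localRing M) * single x (1 : localRing M) = 1 := by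
    rw [single_mul_single, inv_mul_cancel, one_mul, MonoidAlgebra.one_def]
  rw [cj_eq]
  calc single x 1 * f * single x⁻¹ 1 * (single x 1 * f * single x⁻¹ 1)
      = single x 1 * f * (single x⁻¹ 1 * single x 1) * (f * single x⁻¹ 1) := by
        simp only [mul_assoc]
    _ = single x 1 * (f * f) * single x⁻¹ 1 := by rw [h1, mul_one]; simp only [mul_assoc]
    _ = single x 1 * f * single x⁻¹ 1 := by rw [hf]

theorem blockG_mem {Q : Subgroup G} {b : Set (IrrCharacter (𝐂 Q))} (hb : IsPBlock M b) :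
    blockG hb ∈ fixedRing M (𝐂 Q) :=
  BrauerMap.blockG_mem_fixedRing hb fun _ hs => BrauerMap.stabilizesBlock_of_mem _ hs

theorem core_le_centralizer {Q : Subgroup G} (hQ : ∀ x ∈ Q, ∀ z ∈ Q, x * z = z * x) :
    core Q ≤ 𝐂 Q :=
  sup_le (fun x hx => Subgroup.mem_centralizer_iff.2 fun z hz => hQ z hz x hx) le_rfl

variable [Fact p.Prime]

/-- The functional of a block of `C_G(Q)` on the elements fixed by `C_G(Q)`. -/
noncomputable def omegaQ (hM : IsPModular p M) {Q : Subgroup G} (hQp : IsPGroup p Q)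
    (hQ : ∀ x ∈ Q, ∀ z ∈ Q, x * z = z * x) (ξ : IrrCharacter (𝐂 Q)) :
    fixedRing M (𝐂 Q) →+* Residue M :=
  (brHom hM hQp ξ).comp
    ((fixedRing M (𝐂 Q)).subtype.codRestrict (fixedRing M (core Q))
      fun z => BrauerMap.fixedRing_anti (core_le_centralizer hQ) z.2)

theorem omegaQ_apply (hM : IsPModular p M) {Q : Subgroup G} (hQp : IsPGroup p Q)
    (hQ : ∀ x ∈ Q, ∀ z ∈ Q, x * z = z * x) (ξ : IrrCharacter (𝐂 Q)) (z : fixedRing M (𝐂 Q)) :
    omegaQ hM hQp hQ ξ z =
      brHom hM hQp ξ ⟨z, BrauerMap.fixedRing_anti (core_le_centralizer hQ) z.2⟩ := rfl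

/-- A pair above `(Q, b)` is recognised on the idempotent. -/
theorem isPairFor_of_brHom (hM : IsPModular p M) {Q : Subgroup G} (hQp : IsPGroup p Q)
    (hQ : ∀ x ∈ Q, ∀ z ∈ Q, x * z = z * x) {b : Set (IrrCharacter (𝐂 Q))} (hb : IsPBlock M b)
    {ξ : IrrCharacter (𝐂 Q)} (hξ : ξ ∈ b) {a : BrauerPairIdx G} (ha : IsPair p M a)
    (hQa : Q ≤ a.1) (haC : core a.1 ≤ 𝐂 Q) {η : IrrCharacter (Subgroup.centralizer (a.1 : Set G))}
    (hη : η ∈ a.2)
    (h1 : brHom hM ha.1 η ⟨blockG hb, BrauerMap.fixedRing_anti haC (blockG_mem hb)⟩ = 1) :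
    IsPairFor hM (𝐂 Q) (omegaQ hM hQp hQ ξ) a := by
  have hCC : Subgroup.centralizer (a.1 : Set G) ≤ 𝐂 Q := BrauerMap.centralizer_anti hQa
  have hmem : ∀ w : RCenter M (𝐂 Q),
      BrauerMap.emb (Subgroup.subtype (𝐂 Q)) (w : MonoidAlgebra (localRing M) (𝐂 Q)) ∈
        fixedRing M (𝐂 Q) := by
    intro w
    refine BrauerMap.mem_fixedRing_iff.2 fun s hs g => ?_
    by_cases hg : g ∈ 𝐂 Q
    · have e1 := BrauerMap.coeff_emb_apply (M := M) (ι := Subgroup.subtype (𝐂 Q))
        Subtype.val_injective (w : MonoidAlgebra (localRing M) (𝐂 Q))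
      have h2 := Blocks.mem_center_iff.1 w.2 ⟨g, hg⟩ ⟨s, hs⟩
      rw [← e1, ← e1] at h2
      exact h2
    · rw [BrauerMap.coeff_emb_of_notMem _ _ (g := g) (by rwa [Subgroup.range_subtype]),
        BrauerMap.coeff_emb_of_notMem _ _ (g := s * g * s⁻¹) (by
          rw [Subgroup.range_subtype]
          intro h
          have := Subgroup.mul_mem _ (Subgroup.mul_mem _ (Subgroup.inv_mem _ hs) h) hs
          exact hg (by simpa only [mul_assoc, inv_mul_cancel_left, inv_mul_cancel, mul_one] using this))]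
  refine ⟨ha.1, haC, ha.2, fun η' hη' z => ?_⟩
  rw [BrauerMap.brHom_eq_of_sameBlock hM ha.1 (Blocks.sameBlock_of_mem ha.2 hη' hη)]
  let φ : RCenter M (𝐂 Q) →+* Residue M :=
    (brHom hM ha.1 η).comp
      (((BrauerMap.emb (Subgroup.subtype (𝐂 Q))).comp
        (RCenter M (𝐂 Q)).toSubring.subtype).codRestrict (fixedRing M (core a.1))
        fun w => BrauerMap.fixedRing_anti haC (hmem w))
  have hφa : ∀ r : localRing M, φ (algebraMap _ _ r) = residue M r := by
    intro r
    refine Eq.trans ?_ (brHom_single hM ha.1 η r)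
    refine congrArg (brHom hM ha.1 η) (Subtype.ext ?_)
    show BrauerMap.emb _ ((algebraMap (localRing M) (RCenter M (𝐂 Q)) r : RCenter M (𝐂 Q)) :
      MonoidAlgebra (localRing M) (𝐂 Q)) = _
    rw [BrauerMap.coe_algebraMap_rcenter, BrauerMap.emb_single_one]
  have hφ := Blocks.eq_omegaBar_of_ne_zero φ hφa hb
    (fun h => one_ne_zero (h1.symm.trans h)) hξ
  rw [omegaQ_apply, BrauerMap.brHom_apply (P := Q)]
  refine Eq.trans ?_ (DFunLike.congr_fun hφ _)
  refine BrauerMap.brHom_congr hM ha.1 η fun x hx => ?_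
  show residue M _ = residue M ((BrauerMap.emb (Subgroup.subtype (𝐂 Q)) _).coeff x)
  have e1 := BrauerMap.coeff_emb_apply (M := M) (ι := Subgroup.subtype (𝐂 Q))
    Subtype.val_injective (BrauerMap.trunc Q (z : MonoidAlgebra (localRing M) G)) ⟨x, hCC hx⟩
  rw [BrauerMap.coeff_trunc] at e1
  exact congrArg (residue M) e1.symm

variable (M) in
open Classical in
/-- The trace from the centralizer. -/
noncomputable def relTrace (C : Subgroup G) (f : MonoidAlgebra (localRing M) G) :
    MonoidAlgebra (localRing M) G :=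
  haveI := Fintype.ofFinite (G ⧸ C)
  ∑ q : G ⧸ C, cj q.out f

theorem cj_congr {C : Subgroup G} {f : MonoidAlgebra (localRing M) G}
    (hf : f ∈ fixedRing M C) {x x' : G} (h : (x : G ⧸ C) = (x' : G ⧸ C)) : cj x f = cj x' f := by
  have hc : x⁻¹ * x' ∈ C := QuotientGroup.eq.1 h
  ext g
  rw [coeff_cj, coeff_cj, ← BrauerMap.mem_fixedRing_iff.1 hf _ hc (x'⁻¹ * g * x')]
  refine congrArg (fun u => ((f.coeff u : localRing M) : ℂ)) ?_
  group

theorem coeff_relTrace (C : Subgroup G) [Fintype (G ⧸ C)] (f : MonoidAlgebra (localRing M) G)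
    (g : G) : (relTrace M C f).coeff g = ∑ q : G ⧸ C, f.coeff (q.out⁻¹ * g * q.out) := by
  classical
  simp only [relTrace, coeff_sum, Finsupp.finsetSum_apply]
  refine Finset.sum_congr (Finset.ext fun _ => by simp) fun q _ => rfl

theorem relTrace_mem_center {C : Subgroup G} {f : MonoidAlgebra (localRing M) G}
    (hf : f ∈ fixedRing M C) : relTrace M C f ∈ RCenter M G := by
  classical
  haveI := Fintype.ofFinite (G ⧸ C)
  refine Blocks.mem_center_iff.2 fun g h => ?_
  rw [coeff_relTrace, coeff_relTrace, ← Equiv.sum_comp (MulAction.toPerm h)]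
  refine Finset.sum_congr rfl fun q _ => ?_
  have e : ((((h • q : G ⧸ C).out) : G) : G ⧸ C) = ((h * q.out : G) : G ⧸ C) := by
    rw [QuotientGroup.out_eq', ← smul_eq_mul, ← MulAction.Quotient.smul_coe, QuotientGroup.out_eq']
  have := congrArg (fun w => w.coeff (h * g * h⁻¹)) (cj_congr hf e)
  simp only [coeff_cj] at this
  rw [MulAction.toPerm_apply, this]
  refine congrArg f.coeff ?_
  group

/-- The trace of the idempotent of a major subsection has unit central character. -/
theorem not_memLocalIdeal_sum (hM : IsPModular p M) {y : G} (hy : ∃ k : ℕ, orderOf y = p ^ k)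
    {b : Set (IrrCharacter (𝐂 (Subgroup.zpowers y)))} {B : Set (IrrCharacter G)}
    (hind : IsInducedBlock M (𝐂 (Subgroup.zpowers y)) b B)
    (hbd : blockDefect p b = blockDefect p B) {χ : IrrCharacter G} (hχ : χ ∈ B)
    [Fintype (𝐂 (Subgroup.zpowers y))] :
    ¬ MemLocalIdeal M ((∑ c : (𝐂 (Subgroup.zpowers y)), blockCoeff b c * (χ : G → ℂ) (c : G)) *
      ((𝐂 (Subgroup.zpowers y)).index : ℂ) / (χ : G → ℂ) 1) := by
  classical
  cases nonempty_fintype G
  have hb : IsPBlock M b := hind.1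
  have hB : IsPBlock M B := hind.2.1
  obtain ⟨k₀, hk₀⟩ := hy
  have hQp : IsPGroup p (Subgroup.zpowers y) := IsPGroup.of_card (by rw [Nat.card_zpowers, hk₀])
  have hQ : ∀ x ∈ Subgroup.zpowers y, ∀ z ∈ Subgroup.zpowers y, x * z = z * x := by
    rintro _ ⟨i, rfl⟩ _ ⟨j, rfl⟩
    exact (Commute.zpow_zpow_self y i j).eq
  obtain ⟨ξ₀, hξ₀⟩ := Blocks.isPBlock_nonempty hb
  have hCy : ∀ {c : G}, c ∈ (𝐂 (Subgroup.zpowers y)) ↔ c * y = y * c := fun {c} => by
    rw [centralizer_zpowers, Subgroup.mem_centralizer_singleton_iff]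
  -- `(Q, b)` is a pair of `B`
  have hQb : IsBrauerPairOf p M B (Subgroup.zpowers y) b := isBrauerPairOf_of_isInducedBlock hQp hind
  obtain ⟨hP₀, _, _, hω⟩ := (isPairFor_top_iff hM hB hχ
    (a := (⟨Subgroup.zpowers y, b⟩ : BrauerPairIdx G))).2 hQb
  -- a defect group of `b`
  obtain ⟨D₁, hD₁⟩ := Blocks.exists_isDefectGroup (p := p) hb
  obtain ⟨k, hk, hkD⟩ := Blocks.isDefectGroup_iff.1 hD₁
  have hmemQ : ∀ {D₁ : Subgroup (𝐂 (Subgroup.zpowers y))}, IsDefectGroup p M b D₁ →
      (Subgroup.zpowers y) ≤ D₁.map (Subgroup.subtype _) := by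
    intro D₁ hD₁
    haveI : ((Subgroup.zpowers y).subgroupOf (𝐂 (Subgroup.zpowers y))).Normal := by
      refine ⟨fun n hn c => ?_⟩
      have hc := Subgroup.mem_centralizer_iff.1 c.2 (n : G) hn
      have hcn : c * n * c⁻¹ = n :=
        mul_inv_eq_iff_eq_mul.2 (Subtype.ext hc.symm)
      rwa [hcn]
    have h1 := Blocks.normal_le_defectGroup hM (hQp.of_equiv (Subgroup.subgroupOfEquivOfLe
      (show Subgroup.zpowers y ≤ 𝐂 (Subgroup.zpowers y) from
        le_sup_left.trans (core_le_centralizer hQ))).symm) hb hD₁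
    intro x hx
    exact ⟨⟨x, le_sup_left.trans (core_le_centralizer hQ) hx⟩, h1 hx, rfl⟩
  have hQD := hmemQ hD₁
  have hkC : (k : G) ∈ Subgroup.centralizer
      ((D₁.map (Subgroup.subtype _) : Subgroup G) : Set G) :=
    Blocks.map_mem_centralizer_of_mem (Blocks.le_centralizer_singleton_iff.1 hkD.2.1)
  generalize hDdef : D₁.map (Subgroup.subtype _) = D at hQD hkC
  have hDC : D ≤ 𝐂 (Subgroup.zpowers y) := hDdef ▸ Subgroup.map_subtype_le _
  have hDp : IsPGroup p D := hDdef ▸ (Blocks.isPGroup_of_isDefectGroup hD₁).map _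
  have hDcard : Nat.card D = p ^ blockDefect p B := by
    rw [← hDdef, Subgroup.card_map_of_injective (Subgroup.subtype_injective _),
      Blocks.card_defectGroup hM hb hD₁, hbd]
  have hcore : ∀ {R : Subgroup G}, Subgroup.zpowers y ≤ R → R ≤ (𝐂 (Subgroup.zpowers y)) →
      core R ≤ 𝐂 (Subgroup.zpowers y) :=
    fun h1 h2 => sup_le h2 (BrauerMap.centralizer_anti h1)
  set f := blockG hb with hfdef
  have hf := blockG_mem hb
  have hne : residue M (f.coeff (k : G)) ≠ 0 := by
    rw [ne_eq, Blocks.residue_eq_zero_iff, BrauerMap.coe_coeff_blockG,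
      BrauerMap.subgroupBlockCoeff_of_mem]
    exact hk.2.1
  -- a pair of `b` on it
  obtain ⟨η, hη⟩ := exists_brHom_eq_one hM hDp
    (⟨f, BrauerMap.fixedRing_anti (hcore hQD hDC) hf⟩ : fixedRing M (core D))
    (Subtype.ext (BrauerMap.blockG_mul_self hb)) hkC hne
  let a : BrauerPairIdx G :=
    ⟨D, blockOf M (η : Subgroup.centralizer (D : Set G) → ℂ)⟩
  have ha : IsPair p M a := ⟨hDp, Blocks.isPBlock_blockOf η⟩
  have hηa : η ∈ a.2 := Blocks.mem_blockOf_self η
  have haω : IsPairFor hM _ (omegaQ hM hQp hQ ξ₀) a :=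
    isPairFor_of_brHom hM hQp hQ hb hξ₀ ha hQD (hcore hQD hDC) hηa hη
  -- the size of the pairs of `b`
  have hbound : ∀ c : BrauerPairIdx G, IsPairFor hM _ (omegaQ hM hQp hQ ξ₀) c →
      Nat.card c.1 ≤ p ^ blockDefect p B := by
    rintro c ⟨hc1, hc2, hc3, hc4⟩
    obtain ⟨ξ, hξ⟩ := Blocks.isPBlock_nonempty hc3
    have h1 : brHom hM hc1 ξ ⟨f, BrauerMap.fixedRing_anti hc2 hf⟩ = 1 := by
      refine (hc4 ξ hξ ⟨f, hf⟩).trans ?_
      rw [omegaQ_apply, BrauerMap.brHom_apply]
      refine Eq.trans (congrArg (omegaBar M ξ₀) (Subtype.ext ?_ :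
        (_ : RCenter M _) = blockIdem M hb)) (by rw [Blocks.omegaBar_blockIdem, if_pos hξ₀])
      ext x
      rw [BrauerMap.coeff_trunc, BrauerMap.coe_coeff_blockG, BrauerMap.subgroupBlockCoeff_of_mem,
        Blocks.coe_coeff_blockIdem]
    obtain ⟨x, hx, hxne⟩ := exists_mem_centralizer_of_brHom_ne_zero hM hc1 ξ
      ⟨f, BrauerMap.fixedRing_anti hc2 hf⟩ (by rw [h1]; exact one_ne_zero)
    have hxC : x ∈ 𝐂 (Subgroup.zpowers y) := le_sup_right.trans hc2 hx
    have hc2' : c.1 ≤ 𝐂 (Subgroup.zpowers y) := le_sup_left.trans hc2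
    obtain ⟨D₂, hD₂, hle⟩ := Blocks.exists_isDefectGroup_ge hM hb (h := ⟨x, hxC⟩)
      (hc1.of_equiv (Subgroup.subgroupOfEquivOfLe hc2').symm)
      (Subgroup.mem_centralizer_iff.2 fun w hw =>
        Subtype.ext (Subgroup.mem_centralizer_iff.1 hx (w : G) hw))
      (fun h => hxne (by
        rw [Blocks.residue_eq_zero_iff, BrauerMap.coe_coeff_blockG,
          show x = ((⟨x, hxC⟩ : (𝐂 (Subgroup.zpowers y))) : G) from rfl,
          BrauerMap.subgroupBlockCoeff_of_mem]
        exact h))
    have h2 := Subgroup.card_le_of_le hle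
    rwa [Nat.card_congr (Subgroup.subgroupOfEquivOfLe hc2').toEquiv,
      Blocks.card_defectGroup hM hb hD₂, hbd] at h2
  have hmax : ∀ c : BrauerPairIdx G, IsPairFor hM _ (omegaQ hM hQp hQ ξ₀) c →
      Nat.card c.1 = p ^ blockDefect p B → IsMaxFor hM _ (omegaQ hM hQp hQ ξ₀) c :=
    fun c hc hcard => ⟨hc, fun d hd hle => (Subgroup.eq_of_le_of_card_ge (pairLE_fst_le hle)
      ((hbound d hd).trans hcard.ge)).symm⟩
  -- `a` is a pair of `B`
  have hcentral : ∀ z : fixedRing M (⊤ : Subgroup G),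
      brHom hM hDp η ⟨z, BrauerMap.fixedRing_anti le_top z.2⟩ = omegaTop χ z := by
    intro z
    rw [← hω ξ₀ hξ₀ z]
    exact haω.2.2.2 η hηa ⟨z, BrauerMap.fixedRing_anti le_top z.2⟩
  have haB : IsBrauerPairOf p M B a.1 a.2 := by
    refine (isPairFor_top_iff hM hB hχ).1 ⟨hDp, le_top, ha.2, fun η' hη' z => ?_⟩
    rw [← hcentral z, BrauerMap.brHom_eq_of_sameBlock hM hDp
      (Blocks.sameBlock_of_mem ha.2 hη' hηa)]
  -- inertia
  let T := pairStab ha.2
  obtain ⟨E, hE, hEc⟩ := exists_block_of_le_pairStab hM ha (core_le_pairStab ha.2) (le_refl T)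
  have hTN : T ≤ Subgroup.normalizer (D : Set G) := fun x hx => ((mem_pairStab_iff ha.2).1 hx).1
  have hCT : Subgroup.centralizer (D : Set G) ≤ T := le_sup_right.trans (core_le_pairStab ha.2)
  have hDT : D ≤ T := le_sup_left.trans (core_le_pairStab ha.2)
  haveI : ((Subgroup.centralizer (D : Set G)).subgroupOf T).Normal :=
    centralizer_normal_subgroupOf hCT hTN
  haveI : (D.subgroupOf T).Normal := (Subgroup.normal_subgroupOf_iff_le_normalizer hDT).2 hTN
  obtain ⟨DE, hDE⟩ := Blocks.exists_isDefectGroup (p := p) hE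
  have hDEeq : DE = D.subgroupOf T := by
    refine (Subgroup.eq_of_le_of_card_ge (Blocks.normal_le_defectGroup hM
      (hDp.of_equiv (Subgroup.subgroupOfEquivOfLe hDT).symm) hE hDE) ?_).symm
    obtain ⟨m, hm, -⟩ := exists_isMaximal_above hM haB
    obtain ⟨x, -, hx⟩ := exists_conj_card_le_stab hM hm haB rfl hEc hDE
    rw [Nat.card_congr (Subgroup.subgroupOfEquivOfLe hDT).toEquiv, hDcard]
    refine hx.trans ((Subgroup.card_le_of_le inf_le_left).trans ?_)
    rw [Blocks.card_defectGroup hM hB (isDefectGroup_of_isMaximal hM hm)]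
  subst hDEeq
  obtain ⟨hdvd, -⟩ := not_dvd_index_of_supported hM hE
    (BrauerMap.isPBlock_image_irrCongr (Subgroup.subgroupOfEquivOfLe hCT) ha.2)
    (fun n => by
      rw [hEc, BrauerMap.blockCoeff_image_irrCongr]
      exact BrauerMap.subgroupBlockCoeff_of_mem _ _ (Subgroup.subgroupOfEquivOfLe hCT n))
    (fun g hg => by rw [hEc]; exact coeffFun_of_notMem hg) hDE
  have hindex : ¬ p ∣ ((𝐂 (Subgroup.zpowers y)).subgroupOf T).index :=
    fun h => hdvd (h.trans (Subgroup.index_dvd_of_le (sup_le (fun x hx => hDC hx)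
      (fun x hx => BrauerMap.centralizer_anti hQD hx))))
  -- the trace
  haveI := Fintype.ofFinite (G ⧸ (𝐂 (Subgroup.zpowers y)))
  let z : RCenter M G := ⟨relTrace M _ f, relTrace_mem_center hf⟩
  suffices hgoal : omegaBar M χ z ≠ 0 by
    intro hbad
    refine hgoal ?_
    rw [Blocks.omegaBar_apply, Blocks.residue_eq_zero_iff, Blocks.coe_omegaR, Blocks.omega_eq_sum]
    convert hbad using 1
    have hcoef : ∀ g : G, (Blocks.toC M G (relTrace M (𝐂 (Subgroup.zpowers y)) f)).coeff g =
        ∑ q : G ⧸ (𝐂 (Subgroup.zpowers y)),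
          subgroupBlockCoeff _ b (q.out⁻¹ * g * q.out) := fun g => by
      rw [coeff_mapRingHom, coeff_relTrace, map_sum]
      exact Finset.sum_congr rfl fun q _ => BrauerMap.coe_coeff_blockG hb _
    rw [show ((z : RCenter M G) : MonoidAlgebra (localRing M) G) =
      relTrace M (𝐂 (Subgroup.zpowers y)) f from rfl]
    simp only [hcoef]
    conv_lhs => simp only [Finset.sum_mul]
    rw [Finset.sum_comm]
    have hq : ∀ q : G ⧸ (𝐂 (Subgroup.zpowers y)),
        ∑ g : G, subgroupBlockCoeff _ b (q.out⁻¹ * g * q.out) *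
          ((χ : G → ℂ) g / (χ : G → ℂ) 1) =
        (∑ c : (𝐂 (Subgroup.zpowers y)), blockCoeff b c * (χ : G → ℂ) (c : G)) /
          (χ : G → ℂ) 1 := fun q => by
      rw [← Equiv.sum_comp (MulAut.conj q.out).toEquiv, Finset.sum_div]
      refine ((Finset.sum_subset (Finset.subset_univ
        (Finset.univ.filter (· ∈ 𝐂 (Subgroup.zpowers y))))
        (fun g _ hg => ?_)).symm.trans (Finset.sum_subtype (p := fun g => g ∈ 𝐂 (Subgroup.zpowers y)) (F := ‹Fintype (𝐂 (Subgroup.zpowers y))›) _ (fun g => by simp) _)).trans ?_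
      · have hg' : g ∉ 𝐂 (Subgroup.zpowers y) :=
          fun h => hg (Finset.mem_filter.2 ⟨Finset.mem_univ _, h⟩)
        rw [show q.out⁻¹ * (MulAut.conj q.out).toEquiv g * q.out = g from by
          show q.out⁻¹ * (q.out * g * q.out⁻¹) * q.out = g
          group, BrauerMap.subgroupBlockCoeff_of_notMem _ _ hg', zero_mul]
      · refine Finset.sum_congr rfl fun c _ => ?_
        rw [show q.out⁻¹ * (MulAut.conj q.out).toEquiv (c : G) * q.out = c from by
          show q.out⁻¹ * (q.out * (c : G) * q.out⁻¹) * q.out = c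
          group, BrauerMap.subgroupBlockCoeff_of_mem]
        rw [show (χ : G → ℂ) ((MulAut.conj q.out).toEquiv (c : G)) = (χ : G → ℂ) (c : G) from
          Chars.irr_isClassFunction χ _ _, mul_div_assoc]
    simp only [hq]
    rw [Finset.sum_const, Finset.card_univ, nsmul_eq_mul, ← Nat.card_eq_fintype_card,
      ← Subgroup.index]
    ring
  have hzfix : relTrace M (𝐂 (Subgroup.zpowers y)) f ∈ fixedRing M (⊤ : Subgroup G) :=
    BrauerMap.center_le_fixedRing _ (relTrace_mem_center hf)
  rw [show omegaBar M χ z = omegaTop χ ⟨_, hzfix⟩ from rfl, ← hcentral]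
  -- the contributing cosets
  let P : G ⧸ (𝐂 (Subgroup.zpowers y)) → Prop := fun q =>
    (∀ d ∈ D, d • q = q) ∧
      ∃ x ∈ Subgroup.centralizer (D : Set G), residue M (f.coeff (q.out⁻¹ * x * q.out)) ≠ 0
  have hfixq : ∀ q, P q → ∀ d ∈ D, q.out⁻¹ * d * q.out ∈ 𝐂 (Subgroup.zpowers y) := by
    intro q hq d hd
    have h1 := hq.1 d hd
    rw [← QuotientGroup.out_eq' q, MulAction.Quotient.smul_coe, QuotientGroup.eq] at h1
    have h2 := Subgroup.inv_mem _ h1
    simpa [mul_assoc, smul_eq_mul] using h2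
  have hyq : ∀ q, P q → q.out * y * q.out⁻¹ ∈ D := by
    intro q hq
    obtain ⟨x, hx, hxne⟩ := hq.2
    have hxC : q.out⁻¹ * x * q.out ∈ 𝐂 (Subgroup.zpowers y) := by
      by_contra h
      refine hxne ?_
      rw [Blocks.residue_eq_zero_iff, BrauerMap.coe_coeff_blockG,
        BrauerMap.subgroupBlockCoeff_of_notMem _ _ h]
      exact Blocks.memLocalIdeal_zero
    have hR : D.map (MulAut.conj q.out⁻¹).toMonoidHom ≤ 𝐂 (Subgroup.zpowers y) := by
      rintro _ ⟨d, hd, rfl⟩
      simpa using hfixq q hq d hd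
    obtain ⟨D₂, hD₂, hle⟩ := Blocks.exists_isDefectGroup_ge hM hb (h := ⟨_, hxC⟩)
      ((hDp.map _).of_equiv (Subgroup.subgroupOfEquivOfLe hR).symm)
      (Subgroup.mem_centralizer_iff.2 fun w hw => by
        obtain ⟨d, hd, hdw⟩ := hw
        refine Subtype.ext ?_
        simp only [Subgroup.coe_subtype, MulEquiv.coe_toMonoidHom, MulAut.conj_apply] at hdw
        simp only [Subgroup.coe_mul, ← hdw, inv_inv]
        have := Subgroup.mem_centralizer_iff.1 hx d hd
        calc q.out⁻¹ * d * q.out * (q.out⁻¹ * x * q.out) = q.out⁻¹ * (d * x) * q.out := by group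
          _ = q.out⁻¹ * (x * d) * q.out := by rw [this]
          _ = _ := by group)
      (fun h => hxne (by
        rw [Blocks.residue_eq_zero_iff, BrauerMap.coe_coeff_blockG,
          show q.out⁻¹ * x * q.out =
            ((⟨_, hxC⟩ : (𝐂 (Subgroup.zpowers y))) : G) from rfl,
          BrauerMap.subgroupBlockCoeff_of_mem]
        exact h))
    have heq := Subgroup.eq_of_le_of_card_ge hle (le_of_eq (by
      rw [Blocks.card_defectGroup hM hb hD₂, hbd,
        Nat.card_congr (Subgroup.subgroupOfEquivOfLe hR).toEquiv, card_map_conj, hDcard]))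
    obtain ⟨w, hw, hwy⟩ := hmemQ hD₂ (Subgroup.mem_zpowers y)
    rw [← heq] at hw
    obtain ⟨d, hd, hdw⟩ := hw
    have h1 : q.out⁻¹ * d * q.out = y := by
      refine Eq.trans ?_ ((congrArg _ rfl).trans hwy)
      simpa using hdw
    have h2 : q.out * y * q.out⁻¹ = d :=
      (congrArg (fun u => q.out * u * q.out⁻¹) h1).symm.trans (by group)
    exact (congrArg (· ∈ D) h2).mpr hd
  have hcjfix : ∀ q, P q → cj q.out f ∈ fixedRing M (core D) := by
    intro q hq
    have hle : core D ≤
        (𝐂 (Subgroup.zpowers y)).map (MulAut.conj q.out).toMonoidHom := by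
      refine sup_le (fun d hd => mem_map_conj.2 (hfixq q hq d hd))
        (fun c hc => mem_map_conj.2 (hCy.2 ?_))
      have h := Subgroup.mem_centralizer_iff.1 hc _ (hyq q hq)
      calc q.out⁻¹ * c * q.out * y = q.out⁻¹ * (c * (q.out * y * q.out⁻¹)) * q.out := by group
        _ = q.out⁻¹ * ((q.out * y * q.out⁻¹) * c) * q.out := by rw [h]
        _ = y * (q.out⁻¹ * c * q.out) := by group
    refine BrauerMap.mem_fixedRing_iff.2 fun s hs g => ?_
    rw [coeff_cj, coeff_cj,
      ← BrauerMap.mem_fixedRing_iff.1 hf _ (mem_map_conj.1 (hle hs)) (q.out⁻¹ * g * q.out)]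
    refine congrArg f.coeff ?_
    group
  let F : G ⧸ (𝐂 (Subgroup.zpowers y)) → fixedRing M (core D) := fun q =>
    if h : P q then ⟨_, hcjfix q h⟩ else 0
  have hsum : brHom hM hDp η ⟨_, BrauerMap.fixedRing_anti le_top hzfix⟩ =
      ∑ q, brHom hM hDp η (F q) := by
    rw [← map_sum]
    refine BrauerMap.brHom_congr hM hDp η fun x hx => ?_
    rw [coeff_relTrace, map_sum, AddSubmonoidClass.coe_finset_sum, coeff_sum,
      Finsupp.finsetSum_apply, map_sum]
    have hp0 : (p : Residue M) = 0 := by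
      have := Blocks.charP_residue hM
      exact CharP.cast_eq_zero _ p
    letI : MulAction D (G ⧸ (𝐂 (Subgroup.zpowers y))) :=
      MulAction.compHom _ (Subgroup.subtype D)
    rw [Blocks.sum_eq_sum_fixedPoints hp0 hDp]
    · rw [Finset.sum_filter]
      refine Finset.sum_congr rfl fun q _ => ?_
      by_cases hPq : P q
      · rw [if_pos (MulAction.mem_fixedPoints.2 fun d : D => hPq.1 (d : G) d.2)]
        simp only [F, dif_pos hPq]
        rfl
      · simp only [F, dif_neg hPq, ZeroMemClass.coe_zero]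
        rw [MonoidAlgebra.coeff_zero, Finsupp.zero_apply, map_zero]
        split_ifs with h
        · by_contra hc
          exact hPq ⟨fun d hd => h ⟨d, hd⟩, x, hx, hc⟩
        · rfl
    · intro d q
      have e : ((((d • q : G ⧸ (𝐂 (Subgroup.zpowers y))).out) : G) :
          G ⧸ (𝐂 (Subgroup.zpowers y))) =
            (((d : G) * q.out : G) : G ⧸ (𝐂 (Subgroup.zpowers y))) := by
        rw [QuotientGroup.out_eq', ← smul_eq_mul, ← MulAction.Quotient.smul_coe,
          QuotientGroup.out_eq']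
        rfl
      have h1 := congrArg (fun w => w.coeff x) (cj_congr hf e)
      simp only [coeff_cj] at h1
      rw [h1]
      have h2 := Subgroup.mem_centralizer_iff.1 hx d d.2
      have h3 : (d : G)⁻¹ * x * (d : G) = x := by
        rw [mul_assoc, ← h2, inv_mul_cancel_left]
      congr 2
      calc ((d : G) * q.out)⁻¹ * x * ((d : G) * q.out)
          = q.out⁻¹ * ((d : G)⁻¹ * x * (d : G)) * q.out := by group
        _ = q.out⁻¹ * x * q.out := by rw [h3]
  rw [hsum]
  have hidem : ∀ q, brHom hM hDp η (F q) = 0 ∨ brHom hM hDp η (F q) = 1 := by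
    intro q
    refine IsIdempotentElem.iff_eq_zero_or_one.1 ?_
    show _ * _ = _
    rw [← map_mul]
    refine congrArg _ (Subtype.ext ?_)
    by_cases hPq : P q
    · simp only [F, dif_pos hPq]
      exact cj_mul_self _ (BrauerMap.blockG_mul_self hb)
    · simp only [F, dif_neg hPq]
      simp
  -- the cosets with value one form an orbit of `T`
  have horb : ∀ q, brHom hM hDp η (F q) = 1 ↔
      q ∈ MulAction.orbit T ((1 : G) : G ⧸ (𝐂 (Subgroup.zpowers y))) := by
    intro q
    constructor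
    · intro h
      have hPq : P q := by
        by_contra hPq
        simp only [F, dif_neg hPq, map_zero] at h
        exact zero_ne_one h
      simp only [F, dif_pos hPq] at h
      set g := q.out with hg
      have hQR : Subgroup.zpowers y ≤ (conjPair g⁻¹ a).1 := by
        rw [Subgroup.zpowers_le, conjPair_fst, mem_map_conj, inv_inv]
        exact hyq q hPq
      have hRC : (conjPair g⁻¹ a).1 ≤ 𝐂 (Subgroup.zpowers y) := by
        rintro _ ⟨d, hd, rfl⟩
        simpa using hfixq q hPq d hd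
      have ha' : IsPair p M (conjPair g⁻¹ a) := isPair_conjPair ha _
      have hη' : Chars.irrCongr (centEquiv a.1 g⁻¹).symm η ∈ (conjPair g⁻¹ a).2 := by
        show _ ∈ conjBlock a.1 g⁻¹ a.2
        rw [conjBlock_eq_image]
        exact ⟨η, hηa, rfl⟩
      have h1 : brHom hM ha'.1 (Chars.irrCongr (centEquiv a.1 g⁻¹).symm η)
          ⟨f, BrauerMap.fixedRing_anti (hcore hQR hRC) hf⟩ = 1 := by
        rw [← h]
        refine brHom_conj hM hDp g⁻¹ ha'.1 η _
          ⟨f, BrauerMap.fixedRing_anti (hcore hQR hRC) hf⟩ fun w => ?_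
        show f.coeff w = f.coeff (g⁻¹ * (g⁻¹⁻¹ * w * g⁻¹) * g)
        congr 1
        group
      have hp' := isPairFor_of_brHom hM hQp hQ hb hξ₀ ha' hQR (hcore hQR hRC) hη' h1
      obtain ⟨c, hc, hca⟩ := exists_conj_eq (hmax a haω hDcard)
        (hmax _ hp' (by rw [conjPair_fst, card_map_conj]; exact hDcard))
      have hst : g * c ∈ T := by
        show conjPair (g * c) a = a
        rw [← conjPair_mul ha.2, hca, conjPair_mul ha.2, mul_inv_cancel, conjPair_one ha.2]
      refine ⟨⟨g * c, hst⟩, ?_⟩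
      show (g * c : G) • ((1 : G) : G ⧸ (𝐂 (Subgroup.zpowers y))) = q
      rw [MulAction.Quotient.smul_coe, smul_eq_mul, mul_one, ← QuotientGroup.out_eq' q, ← hg,
        QuotientGroup.eq]
      simpa [mul_assoc] using Subgroup.inv_mem _ hc
    · rintro ⟨⟨t, ht⟩, htq⟩
      have htq' : ((q.out : G) : G ⧸ (𝐂 (Subgroup.zpowers y))) = (t : G) := by
        rw [QuotientGroup.out_eq', ← htq]
        show t • ((1 : G) : G ⧸ (𝐂 (Subgroup.zpowers y))) = _
        rw [MulAction.Quotient.smul_coe, smul_eq_mul, mul_one]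
      have hcjt := cj_congr hf htq'
      have hts : conjPair t a = a := ht
      have htD : D.map (MulAut.conj t).toMonoidHom = D := map_conj_eq_iff_mem_normalizer.2 (hTN ht)
      have hcft : cj t f ∈ fixedRing M (core D) := by
        refine BrauerMap.mem_fixedRing_iff.2 fun s hs g => ?_
        have hs' : t⁻¹ * s * t ∈ core D := by
          have hle : core D ≤ (core D).comap (MulAut.conj t⁻¹).toMonoidHom := by
            refine sup_le (fun d hd => Subgroup.mem_sup_left ?_)
              (fun d hd => Subgroup.mem_sup_right ?_)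
            · have := (Subgroup.mem_normalizer_iff.1 (Subgroup.inv_mem _ (hTN ht)) d).1 hd
              simpa using this
            · simpa using Blocks.conj_mem_centralizer_of_mem_normalizer
                (Subgroup.inv_mem _ (hTN ht)) hd
          simpa using hle hs
        rw [coeff_cj, coeff_cj, ← BrauerMap.mem_fixedRing_iff.1 hf _ (hcore hQD hDC hs')
          (t⁻¹ * g * t)]
        refine congrArg f.coeff ?_
        group
      have hval : brHom hM hDp η ⟨cj t f, hcft⟩ = 1 := by
        have key : ∀ (R : Subgroup G) (γ : Set (IrrCharacter (Subgroup.centralizer (R : Set G))))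
            (hR : IsPGroup p R) (ξ' : IrrCharacter (Subgroup.centralizer (R : Set G)))
            (hm : cj t f ∈ fixedRing M (core R)), (⟨R, γ⟩ : BrauerPairIdx G) = a → ξ' ∈ γ →
            brHom hM hR ξ' ⟨_, hm⟩ = 1 → brHom hM hDp η ⟨cj t f, hcft⟩ = 1 := by
          intro R γ hR ξ' hm he hξ' h1
          obtain ⟨rfl, he2⟩ := Sigma.mk.inj_iff.1 he
          obtain rfl := eq_of_heq he2
          rw [BrauerMap.brHom_eq_of_sameBlock hM hDp (Blocks.sameBlock_of_mem ha.2 hηa hξ')]
          exact h1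
        have hm' : cj t f ∈ fixedRing M (core (conjPair t a).1) := by
          show cj t f ∈ fixedRing M (core (D.map (MulAut.conj t).toMonoidHom))
          rw [htD]
          exact hcft
        refine key (conjPair t a).1 (conjPair t a).2 (hDp.map _)
          (Chars.irrCongr (centEquiv a.1 t).symm η) hm' hts ?_ ?_
        · show _ ∈ conjBlock a.1 t a.2
          rw [conjBlock_eq_image]
          exact ⟨η, hηa, rfl⟩
        · rw [← hη]
          exact brHom_conj hM hDp t _ η _ ⟨cj t f, hm'⟩ fun w => rfl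
      have hPq : P q := by
        refine ⟨fun d hd => ?_, ?_⟩
        · rw [← QuotientGroup.out_eq' q, htq', MulAction.Quotient.smul_coe, smul_eq_mul,
            QuotientGroup.eq]
          have h1 := (Subgroup.mem_normalizer_iff.1 (Subgroup.inv_mem _ (hTN ht)) d).1 hd
          have h2 := Subgroup.inv_mem _ (hDC h1)
          simpa [mul_assoc] using h2
        · obtain ⟨x, hx, hxne⟩ := exists_mem_centralizer_of_brHom_ne_zero hM hDp η
            ⟨cj t f, hcft⟩ (by rw [hval]; exact one_ne_zero)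
          refine ⟨x, hx, ?_⟩
          have h1 := congrArg (fun w => w.coeff x) hcjt
          simp only [coeff_cj] at h1
          rw [h1]
          exact hxne
      simp only [F, dif_pos hPq]
      rw [← hval]
      exact congrArg _ (Subtype.ext hcjt)
  have hval : ∀ q, brHom hM hDp η (F q) =
      if q ∈ MulAction.orbit T ((1 : G) : G ⧸ (𝐂 (Subgroup.zpowers y))) then 1 else 0 := by
    intro q
    split_ifs with h
    · exact (horb q).2 h
    · exact (hidem q).resolve_right fun h1 => h ((horb q).1 h1)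
  simp only [hval]
  rw [Finset.sum_boole]
  haveI := Blocks.charP_residue hM
  rw [ne_eq, CharP.cast_eq_zero_iff (Residue M) p]
  intro hdiv
  refine hindex ?_
  have hstab : MulAction.stabilizer T ((1 : G) : G ⧸ (𝐂 (Subgroup.zpowers y))) =
      (𝐂 (Subgroup.zpowers y)).subgroupOf T := by
    ext t
    rw [MulAction.mem_stabilizer_iff, Subgroup.mem_subgroupOf]
    show ((t : G) • ((1 : G) : G ⧸ (𝐂 (Subgroup.zpowers y))) = _) ↔ _
    rw [MulAction.Quotient.smul_coe, smul_eq_mul, mul_one, QuotientGroup.eq, mul_one,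
      inv_mem_iff]
  rw [← hstab, MulAction.index_stabilizer, Set.ncard_eq_toFinset_card']
  convert hdiv using 2
  ext q
  simp

end Cfsg.Agent.Lib.BrauerPairs.Inertia
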