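import Cfsg.Agent.Lib.BrauerPairs.LocalInertial
import Cfsg.Agent.Lib.Contrib.Family
import Cfsg.Agent.Lib.BrauerFeit.DefectGroup
import Mathlib

/-!
# Characters on the sections of an abelian defect group
-/

set_option autoImplicit false

namespace Cfsg.Agent.Lib.BrauerPairs.MajorNonvanishing

open Cfsg
open Cfsg.Agent.Lib
open Cfsg.Agent.Lib.BrauerPairs

universe u

variable {G : Type u} [Group G] [Fintype G] {M : Ideal AlgInt} [M.IsPrime] {p : ℕ} [Fact p.Prime]

/-- Every element of an abelian defect group lies in a major subsection. -/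
theorem exists_major_subsection (hM : IsPModular p M) {B : Set (IrrCharacter G)}
    (hB : IsPBlock M B) {P : Subgroup G} (hP : IsDefectGroup p M B P)
    (hab : ∀ x ∈ P, ∀ y ∈ P, x * y = y * x) {u : G} (hu : u ∈ P) :
    ∃ f : Set (IrrCharacter (Subgroup.centralizer (Subgroup.zpowers u : Set G))),
      IsInducedBlock M (Subgroup.centralizer (Subgroup.zpowers u : Set G)) f B ∧
        blockDefect p f = blockDefect p B := by
  classical
  obtain ⟨c, hc⟩ := KernelCore.exists_pair_at_defectGroup hM hB hP
  have hmax := KernelCore.isMaximal_of_defectGroup hM (a := ⟨P, c⟩) hc hP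
  set Q := Subgroup.zpowers u with hQ
  have hQP : Q ≤ P := Subgroup.zpowers_le.2 hu
  have hPp : IsPGroup p P := hc.1.1
  have hPC : P ≤ Subgroup.centralizer (Q : Set G) := le_centralizer_of_comm hab hQP
  obtain ⟨f, hf⟩ := LocalInertial.exists_induced hM hab hQP hPp hc.1.2
  refine ⟨f, ?_, ?_⟩
  · have hn := LocalInertial.normalSubpair hM hPC hQP hPp hc.1.2 hf
    have hQf : IsBrauerPairOf p M B Q f :=
      (BrauerMap.isBrauerPairOf_iff_of_subpairLE hM (Relation.ReflTransGen.single hn) hn.2.1
        hB).1 hc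
    obtain ⟨B', hB'⟩ := Blocks.inducedBlockDefined hM hQf.1.1
      (fun x hx => Subgroup.mem_centralizer_iff.2 fun y hy =>
        hab y (hQP hy) x (hQP hx)) le_rfl (Subgroup.centralizer_le_normalizer _) hf.2.1
    have h' := isBrauerPairOf_of_isInducedBlock hQf.1.1 hB'
    rwa [(BrauerMap.existsUnique_isBrauerPairOf hM hQf.1).unique hQf h']
  · have hD := isDefectGroup_of_isMaximal hM (a := ⟨_, LocalInertial.subBlock hPC hQP c⟩)
      (LocalInertial.isMaximal_sub hM hPC hQP hmax hf)
    have h1 := BrauerFeit.card_defectGroup hM hf.2.1 hD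
    rw [Nat.card_congr (Subgroup.subgroupOfEquivOfLe hPC).toEquiv,
      BrauerFeit.card_defectGroup hM hB hP] at h1
    exact (Nat.pow_right_injective (Fact.out : p.Prime).two_le h1).symm

/-- No member of the block vanishes on the section of an element of an abelian defect group. -/
theorem exists_apply_mul_ne_zero (hM : IsPModular p M) {B : Set (IrrCharacter G)}
    (hB : IsPBlock M B) {P : Subgroup G} (hP : IsDefectGroup p M B P)
    (hab : ∀ x ∈ P, ∀ y ∈ P, x * y = y * x) {u : G} (hu : u ∈ P) {χ : IrrCharacter G}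
    (hχ : χ ∈ B) :
    ∃ y : G, IsPRegular p y ∧ Commute u y ∧ (χ : G → ℂ) (u * y) ≠ 0 := by
  classical
  obtain ⟨f, hf, hd⟩ := exists_major_subsection hM hB hP hab hu
  have hPp : IsPGroup p P := Blocks.isPGroup_of_isDefectGroup hP
  obtain ⟨k, hk⟩ := IsPGroup.iff_orderOf.1 hPp ⟨u, hu⟩
  have hz : orderOf u = p ^ k := (Subgroup.orderOf_mk u hu).symm.trans hk
  have hC := centralizer_zpowers (G := G) u
  obtain ⟨F, lam, -, hF, -, -, -, hlR, hlU, hl⟩ := Contrib.exists_family hM hz hC hf
  obtain ⟨ψ, hψ, h0⟩ := Blocks.exists_height_zero (p := p) hB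
  have hne := (Contrib.major_facts hM hz hC hf hd hF hlR hlU hl).2 χ hχ ψ hψ h0
  by_contra hall
  push Not at hall
  refine hne ?_
  rw [hF χ ψ 1 hM.1.not_dvd_one, pow_one]
  have hsec : ∀ ξ : IrrCharacter (Subgroup.centralizer (Subgroup.zpowers u : Set G)),
      Contrib.secCoef p u χ ξ = 0 := by
    intro ξ
    rw [Contrib.secCoef, show pRegularPart p (fun c : Subgroup.centralizer (Subgroup.zpowers u : Set G) =>
      (χ : G → ℂ) (u * (c : G))) = 0 from funext fun c => ?_, classInner]
    · simp
    · rw [BrauerFeit.pRegularPart_apply]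
      split_ifs with hreg
      · rfl
      · refine hall c ?_ ?_
        · rwa [IsPRegular, Subgroup.orderOf_coe]
        · exact Subgroup.mem_centralizer_iff.1 c.2 u (Subgroup.mem_zpowers u)
  simp [Contrib.contrib, hsec]

end Cfsg.Agent.Lib.BrauerPairs.MajorNonvanishing
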