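import Cfsg.Agent.Lib.BrauerPairs.Fusion
import Cfsg.Agent.Lib.Blocks.Covering
import Mathlib

/-!
# Nilpotency and normal subgroups of p-power index
-/

set_option autoImplicit false

namespace Cfsg.Agent.Lib.BrauerPairs.PPowerCover

open Cfsg
open Cfsg.Agent.Lib
open Cfsg.Agent.Lib.BrauerPairs
open Cfsg.Agent.Lib.Clifford (conjFun resFun)
open scoped ComplexConjugate

universe u

variable {G : Type u} [Group G]

/-- A product of powers, up to a subgroup. -/
theorem mem_of_mul_mem {S K : Subgroup G} (hKS : K ≤ S) {b x : G} (hbx : b * x ∈ S) {n : ℕ}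
    (hb : b ^ n ∈ K) (hn : (orderOf x).Coprime n)
    (hbK : b ∈ Subgroup.normalizer (K : Set G)) (hxK : x ∈ Subgroup.normalizer (K : Set G))
    (hcomm : ∀ i : ℕ, (b * x ^ i)⁻¹ * (x ^ i * b) ∈ K) : x ∈ S := by
  have hconj : ∀ {y k : G}, y ∈ Subgroup.normalizer (K : Set G) → k ∈ K → y⁻¹ * k * y ∈ K := by
    intro y k hy hk
    simpa using (Subgroup.mem_normalizer_iff.1 (inv_mem hy) k).1 hk
  have key : ∀ m : ℕ, ∃ k ∈ K, (b * x) ^ m = b ^ m * x ^ m * k := by
    intro m
    induction m with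
    | zero => exact ⟨1, K.one_mem, by simp⟩
    | succ m ih =>
      obtain ⟨k, hk, hm⟩ := ih
      refine ⟨x⁻¹ * ((b * x ^ m)⁻¹ * (x ^ m * b) * (b⁻¹ * k * b)) * x,
        hconj hxK (K.mul_mem (hcomm m) (hconj hbK hk)), ?_⟩
      rw [pow_succ (b * x) m, hm, pow_succ b m, pow_succ x m]
      group
  obtain ⟨k, hk, hn'⟩ := key n
  have h1 : x ^ n ∈ S := by
    have h2 : (b * x) ^ n ∈ S := S.pow_mem hbx n
    rw [hn', mul_assoc] at h2
    exact (Subgroup.mul_mem_cancel_right S (hKS hk)).1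
      ((Subgroup.mul_mem_cancel_left S (hKS hb)).1 h2)
  obtain ⟨j, hj⟩ := exists_pow_eq_self_of_coprime (x := x) hn.symm
  rw [← hj]
  exact S.pow_mem h1 j

variable (N : Subgroup G) [N.Normal] (Q : Subgroup G)

/-- `C_G(Q) ∩ N` inside `C_G(Q)`. -/
abbrev inter : Subgroup (Subgroup.centralizer (Q : Set G)) :=
  N.subgroupOf (Subgroup.centralizer (Q : Set G))

/-- Conjugation on `C_N(Q)`. -/
def tau (y : G) (hy : y ∈ Subgroup.normalizer (Q : Set G)) : inter N Q ≃* inter N Q where
  toFun k := ⟨BrauerMap.conjEquiv y (BrauerMap.normalizer_le_normalizer_centralizer' Q hy) k.1,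
    Subgroup.mem_subgroupOf.2 (by
      simpa using (inferInstance : N.Normal).conj_mem _ (Subgroup.mem_subgroupOf.1 k.2) y⁻¹)⟩
  invFun k := ⟨(BrauerMap.conjEquiv y (BrauerMap.normalizer_le_normalizer_centralizer' Q hy)).symm k.1,
    Subgroup.mem_subgroupOf.2 ((inferInstance : N.Normal).conj_mem _ (Subgroup.mem_subgroupOf.1 k.2) y)⟩
  left_inv k := Subtype.ext (MulEquiv.symm_apply_apply _ _)
  right_inv k := Subtype.ext (MulEquiv.apply_symm_apply _ _)
  map_mul' a b := Subtype.ext (map_mul _ _ _)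

theorem coe_tau (y : G) (hy : y ∈ Subgroup.normalizer (Q : Set G)) (k : inter N Q) :
    ((tau N Q y hy k : Subgroup.centralizer (Q : Set G)) : G) =
      y⁻¹ * ((k : Subgroup.centralizer (Q : Set G)) : G) * y := rfl

variable [Finite G]

theorem irrCongr_tau_tau {a b : G} (ha : a ∈ Subgroup.normalizer (Q : Set G))
    (hb : b ∈ Subgroup.normalizer (Q : Set G)) (θ : IrrCharacter (inter N Q)) :
    Chars.irrCongr (tau N Q a ha) (Chars.irrCongr (tau N Q b hb) θ) =
      Chars.irrCongr (tau N Q (a * b) (mul_mem ha hb)) θ := by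
  refine Subtype.ext (funext fun k => ?_)
  simp only [BrauerMap.irrCongr_apply]
  refine congrArg _ (Subtype.ext (Subtype.ext ?_))
  simp only [coe_tau]
  group

theorem irrCongr_tau_one (θ : IrrCharacter (inter N Q)) :
    Chars.irrCongr (tau N Q 1 (one_mem _)) θ = θ := by
  refine Subtype.ext (funext fun k => ?_)
  simp only [BrauerMap.irrCongr_apply]
  refine congrArg _ (Subtype.ext (Subtype.ext ?_))
  simp [coe_tau]

/-- The elements fixing a set of characters of `C_N(Q)`. -/
def stabK (e : Set (IrrCharacter (inter N Q))) : Subgroup G where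
  carrier := {y | ∃ hy : y ∈ Subgroup.normalizer (Q : Set G), Chars.irrCongr (tau N Q y hy) '' e = e}
  one_mem' := ⟨one_mem _, (Set.image_congr' (irrCongr_tau_one N Q)).trans (Set.image_id _)⟩
  mul_mem' := by
    rintro a b ⟨ha, hae⟩ ⟨hb, hbe⟩
    refine ⟨mul_mem ha hb, ?_⟩
    rw [← Set.image_congr' (irrCongr_tau_tau N Q ha hb), ← Set.image_image, hbe, hae]
  inv_mem' := by
    rintro a ⟨ha, hae⟩
    refine ⟨inv_mem ha, ?_⟩
    conv_lhs => rw [← hae, Set.image_image, Set.image_congr' (irrCongr_tau_tau N Q (inv_mem ha) ha)]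
    refine (Set.image_congr' fun θ => ?_).trans (Set.image_id _)
    refine Eq.trans ?_ (irrCongr_tau_one N Q θ)
    exact Subtype.ext (funext fun k => congrArg (θ : ↥(inter N Q) → ℂ)
      (Subtype.ext (Subtype.ext (by simp [coe_tau]))))

theorem inf_centralizer_le_stabK (e : Set (IrrCharacter (inter N Q))) :
    N ⊓ Subgroup.centralizer (Q : Set G) ≤ stabK N Q e := by
  rintro a ⟨haN, haC⟩
  refine ⟨Subgroup.centralizer_le_normalizer _ haC, (Set.image_congr' fun θ => ?_).trans (Set.image_id _)⟩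
  refine Subtype.ext (funext fun k => ?_)
  have h := Chars.irr_isClassFunction θ k (⟨⟨a, haC⟩, Subgroup.mem_subgroupOf.2 haN⟩ : inter N Q)⁻¹
  refine Eq.trans ?_ h
  rw [BrauerMap.irrCongr_apply]
  exact congrArg _ (Subtype.ext (Subtype.ext (by simp [coe_tau])))

variable {M : Ideal AlgInt} [M.IsPrime] {p : ℕ}

/-- A p'-element of `N` stabilizing a block of `C_G(Q)` stabilizes the blocks below it. -/
theorem mem_stabK (hM : IsPModular p M) (hidx : ∃ k : ℕ, N.index = p ^ k)
    {f : Set (IrrCharacter (Subgroup.centralizer (Q : Set G)))} (hf : IsPBlock M f)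
    [Fintype (Subgroup.centralizer (Q : Set G))] [Fintype (inter N Q)]
    {ξ : IrrCharacter (Subgroup.centralizer (Q : Set G))} (hξ : ξ ∈ f)
    {θ : IrrCharacter (inter N Q)}
    (hθ : classInner (resFun (inter N Q) (ξ : ↥(Subgroup.centralizer (Q : Set G)) → ℂ))
      (θ : ↥(inter N Q) → ℂ) ≠ 0)
    {x : G} (hxN : x ∈ N) (hxQ : x ∈ Subgroup.normalizer (Q : Set G))
    (hst : StabilizesBlock (Subgroup.centralizer (Q : Set G)) f x) (hreg : IsPRegular p x) :
    x ∈ stabK N Q (blockOf M (θ : ↥(inter N Q) → ℂ)) := by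
  classical
  set e := blockOf M (θ : ↥(inter N Q) → ℂ) with he
  have heb : IsPBlock M e := Blocks.isPBlock_blockOf θ
  obtain ⟨hxC, himg⟩ := (BrauerMap.stabilizesBlock_iff hf x).1 hst
  set ξ' := Chars.irrCongr (BrauerMap.conjEquiv x hxC) ξ with hξ'
  have hξ'f : ξ' ∈ f := himg ▸ ⟨ξ, hξ, rfl⟩
  have hθ' : classInner (resFun (inter N Q) (ξ' : ↥(Subgroup.centralizer (Q : Set G)) → ℂ))
      (Chars.irrCongr (tau N Q x hxQ) θ : ↥(inter N Q) → ℂ) ≠ 0 := by
    have heq : classInner (resFun (inter N Q) (ξ' : ↥(Subgroup.centralizer (Q : Set G)) → ℂ))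
        (Chars.irrCongr (tau N Q x hxQ) θ : ↥(inter N Q) → ℂ) =
        classInner (resFun (inter N Q) (ξ : ↥(Subgroup.centralizer (Q : Set G)) → ℂ))
          (θ : ↥(inter N Q) → ℂ) := by
      simp only [classInner]
      congr 1
      exact Fintype.sum_equiv (tau N Q x hxQ).toEquiv _ _ fun k => rfl
    rwa [heq]
  obtain ⟨g, θ₀, hθ₀, hg⟩ := Blocks.Covering.constituent_mem_conjClosure heb
    (Blocks.sameBlock_of_mem hf hξ hξ'f) (Blocks.mem_blockOf_self θ) hθ hθ'
  set b : G := (g : G) with hb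
  have hbN : b ∈ Subgroup.normalizer (Q : Set G) := Subgroup.centralizer_le_normalizer _ g.2
  have heq : Chars.irrCongr (tau N Q (b * x) (mul_mem hbN hxQ)) '' e = e := by
    refine Blocks.isPBlock_eq_of_mem (BrauerMap.isPBlock_image_irrCongr _ heb) heb
      (χ := θ₀) ⟨θ, Blocks.mem_blockOf_self θ, ?_⟩ hθ₀
    rw [← irrCongr_tau_tau N Q hbN hxQ]
    refine Subtype.ext (funext fun k => ?_)
    rw [BrauerMap.irrCongr_apply, ← congrFun hg]
    simp only [conjFun]
    refine congrArg _ (Subtype.ext (Subtype.ext ?_))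
    simp [coe_tau, b, mul_assoc]
  have hKn : ∀ y ∈ Subgroup.normalizer (Q : Set G),
      y ∈ Subgroup.normalizer ((N ⊓ Subgroup.centralizer (Q : Set G) : Subgroup G) : Set G) := by
    intro y hy
    refine Subgroup.mem_normalizer_iff.2 fun k => ?_
    rw [Subgroup.mem_inf, Subgroup.mem_inf, ← Subgroup.mem_normalizer_iff.1
      (show y ∈ Subgroup.normalizer (N : Set G) by rw [Subgroup.normalizer_eq_top]; trivial) k,
      ← Subgroup.mem_normalizer_iff.1 (BrauerMap.normalizer_le_normalizer_centralizer' Q hy) k]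
  obtain ⟨k, hk⟩ := hidx
  refine mem_of_mul_mem (n := p ^ k) (inf_centralizer_le_stabK N Q e)
    ⟨mul_mem hbN hxQ, heq⟩ ⟨hk ▸ Subgroup.pow_index_mem N b, pow_mem g.2 _⟩
    (Nat.Coprime.pow_right _ ((hM.1.coprime_iff_not_dvd.2 hreg).symm)) (hKn b hbN) (hKn x hxQ)
    fun i => ⟨?_, ?_⟩
  · have h1 : b⁻¹ * x ^ i * b ∈ N := by
      simpa using (inferInstance : N.Normal).conj_mem _ (N.pow_mem hxN i) b⁻¹
    have h2 := N.mul_mem (N.inv_mem (N.pow_mem hxN i)) h1
    simpa [mul_assoc] using h2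
  · have h1 : (x ^ i)⁻¹ * b⁻¹ * (x ^ i) ∈ Subgroup.centralizer (Q : Set G) := by
      simpa using (Subgroup.mem_normalizer_iff.1 (BrauerMap.normalizer_le_normalizer_centralizer' Q
        (inv_mem (pow_mem hxQ i))) b⁻¹).1 (inv_mem g.2)
    have h2 := (Subgroup.centralizer (Q : Set G)).mul_mem h1 g.2
    simpa [mul_assoc, b] using h2

variable {N} {Q}

/-- `C_G(Q) ∩ N ≅ C_N(Q)`. -/
def interEquiv (hQ : Q ≤ N) :
    inter N Q ≃* Subgroup.centralizer ((Q.subgroupOf N : Subgroup N) : Set N) where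
  toFun k := ⟨⟨((k : Subgroup.centralizer (Q : Set G)) : G), Subgroup.mem_subgroupOf.1 k.2⟩,
    Subgroup.mem_centralizer_iff.2 fun q hq =>
      Subtype.ext (Subgroup.mem_centralizer_iff.1 k.1.2 (q : G) hq)⟩
  invFun c := ⟨⟨((c : N) : G), Subgroup.mem_centralizer_iff.2 fun q hq =>
      congrArg Subtype.val (Subgroup.mem_centralizer_iff.1 c.2 ⟨q, hQ hq⟩ hq)⟩,
    Subgroup.mem_subgroupOf.2 c.1.2⟩
  left_inv k := rfl
  right_inv c := rfl
  map_mul' _ _ := rfl

theorem stabilizes_iff_mem_stabK (hQ : Q ≤ N) {e : Set (IrrCharacter (inter N Q))}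
    (he : IsPBlock M e) (x : N) (hxQ : (x : G) ∈ Subgroup.normalizer (Q : Set G))
    (hx' : x ∈ Subgroup.normalizer
      ((Subgroup.centralizer ((Q.subgroupOf N : Subgroup N) : Set N) : Subgroup N) : Set N)) :
    StabilizesBlock (Subgroup.centralizer ((Q.subgroupOf N : Subgroup N) : Set N))
      (Chars.irrCongr (interEquiv hQ).symm '' e) x ↔ (x : G) ∈ stabK N Q e := by
  have hcomm : ∀ θ : IrrCharacter (inter N Q),
      Chars.irrCongr (BrauerMap.conjEquiv x hx') (Chars.irrCongr (interEquiv hQ).symm θ) =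
        Chars.irrCongr (interEquiv hQ).symm (Chars.irrCongr (tau N Q (x : G) hxQ) θ) :=
    fun θ => Subtype.ext (funext fun k => rfl)
  rw [BrauerMap.stabilizesBlock_iff (BrauerMap.isPBlock_image_irrCongr _ he)]
  constructor
  · rintro ⟨_, h⟩
    refine ⟨hxQ, Set.image_injective.2 (Chars.irrCongr (interEquiv hQ).symm).injective ?_⟩
    rw [Set.image_image]
    rw [Set.image_image, Set.image_congr' hcomm] at h
    exact h
  · rintro ⟨_, h⟩
    refine ⟨hx', ?_⟩
    rw [Set.image_image, Set.image_congr' hcomm, ← Set.image_image]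
    exact congrArg _ h

/-- The Brauer maps of `B` and `c` agree on characters lying over each other. -/
theorem brauerOmega_eq (hQ : Q ≤ N) {B : Set (IrrCharacter G)} {c : Set (IrrCharacter N)}
    (hBc : ∀ g : G, blockCoeff B g = subgroupBlockCoeff N c g)
    [Fintype (Subgroup.centralizer (Q : Set G))] [Fintype (inter N Q)]
    {ξ : IrrCharacter (Subgroup.centralizer (Q : Set G))} {θ : IrrCharacter (inter N Q)}
    (hθ : classInner (resFun (inter N Q) (ξ : ↥(Subgroup.centralizer (Q : Set G)) → ℂ))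
      (θ : ↥(inter N Q) → ℂ) ≠ 0) :
    brauerOmega Q (blockCoeff B) (ξ : ↥(Subgroup.centralizer (Q : Set G)) → ℂ) =
      brauerOmega (Q.subgroupOf N) (blockCoeff c)
        (Chars.irrCongr (interEquiv hQ).symm θ :
          ↥(Subgroup.centralizer ((Q.subgroupOf N : Subgroup N) : Set N)) → ℂ) := by
  classical
  haveI : Fintype (Subgroup.centralizer ((Q.subgroupOf N : Subgroup N) : Set N)) := Fintype.ofFinite _
  have hw : IsClassFunction (Subgroup.centralizer (Q : Set G)) fun g => blockCoeff B (g : G) :=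
    fun g h => Blocks.blockCoeff_conj B (g : G) (h : G)
  rw [brauerOmega, finsum_eq_sum_of_fintype, brauerOmega, finsum_eq_sum_of_fintype,
    Blocks.Covering.sum_eq_sum_normal (N := inter N Q) (f := fun g : Subgroup.centralizer (Q : Set G) =>
      blockCoeff B (g : G) * (ξ : ↥(Subgroup.centralizer (Q : Set G)) → ℂ) g /
        (ξ : ↥(Subgroup.centralizer (Q : Set G)) → ℂ) 1)
      (fun g hg => by
        rw [hBc, BrauerMap.subgroupBlockCoeff_of_notMem _ _ (fun h => hg (Subgroup.mem_subgroupOf.2 h)),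
          zero_mul, zero_div]),
    Blocks.Covering.sum_normal_mul_div_eq hw ξ θ hθ]
  refine Fintype.sum_equiv (interEquiv hQ).toEquiv _ _ fun k => ?_
  rw [BrauerMap.irrCongr_apply, BrauerMap.irrCongr_apply, map_one]
  simp only [MulEquiv.toEquiv_eq_coe, EquivLike.coe_coe, MulEquiv.symm_apply_apply, hBc]
  congr 2
  exact BrauerMap.subgroupBlockCoeff_of_mem N c
    ((interEquiv hQ k : Subgroup.centralizer ((Q.subgroupOf N : Subgroup N) : Set N)) : N)

theorem isBrauerPairOf_of_congr_one {H : Type u} [Group H] [Finite H] (hM : IsPModular p M)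
    {B : Set (IrrCharacter H)} (hB : IsPBlock M B) {R : Subgroup H} (hR : IsPGroup p R)
    (ξ : IrrCharacter (Subgroup.centralizer (R : Set H)))
    (h : MemLocalIdeal M (brauerOmega R (blockCoeff B)
      (ξ : ↥(Subgroup.centralizer (R : Set H)) → ℂ) - 1)) :
    IsBrauerPairOf p M B R (blockOf M (ξ : ↥(Subgroup.centralizer (R : Set H)) → ℂ)) := by
  refine ⟨⟨hR, Blocks.isPBlock_blockOf ξ⟩, hB, fun ξ' hξ' => ?_⟩
  rw [BrauerMap.brHom_blockIdem_eq_one_iff hM hR hB,
    ← BrauerMap.brHom_eq_of_sameBlock hM hR (Blocks.mem_blockOf.1 hξ')]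
  exact (BrauerMap.brHom_blockIdem_eq_one_iff hM hR hB ξ).1 h

/-- Nilpotency passes between a block of `N` and the block of `G` with the same idempotent. -/
theorem isNilpotentBlock_iff (hM : IsPModular p M) (hidx : ∃ k : ℕ, N.index = p ^ k)
    {B : Set (IrrCharacter G)} (hB : IsPBlock M B) {c : Set (IrrCharacter N)} (hc : IsPBlock M c)
    (hBc : ∀ g : G, blockCoeff B g = subgroupBlockCoeff N c g) :
    IsNilpotentBlock p M c ↔ IsNilpotentBlock p M B := by
  classical
  haveI := Fact.mk hM.1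
  cases nonempty_fintype G
  constructor
  · intro hnil
    refine ⟨hB, fun R g hg x hxR hst hreg => ?_⟩
    have hxN : x ∈ N := Blocks.Covering.mem_of_pRegular_of_index (H := G) N hidx hreg
    set Q := R ⊓ N with hQdef
    have hQN : Q ≤ N := inf_le_right
    obtain ⟨f, hf, huniq⟩ := BrauerMap.existsUnique_subpairLE hM hg.1 (inf_le_left : Q ≤ R)
    have hQf : IsBrauerPairOf p M B Q f :=
      (BrauerMap.isBrauerPairOf_iff_of_subpairLE hM hf.2 hg.1 hB).1 hg
    have hxQ : x ∈ Subgroup.normalizer (Q : Set G) := by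
      refine Subgroup.mem_normalizer_iff.2 fun k => ?_
      rw [hQdef, Subgroup.mem_inf, Subgroup.mem_inf, ← Subgroup.mem_normalizer_iff.1 hxR k,
        ← Subgroup.mem_normalizer_iff.1
          (show x ∈ Subgroup.normalizer (N : Set G) by rw [Subgroup.normalizer_eq_top]; trivial) k]
    have hfst : StabilizesBlock (Subgroup.centralizer (Q : Set G)) f x := by
      refine ((mem_pairStab_iff_stabilizesBlock (a := (⟨Q, f⟩ : BrauerPairIdx G)) hf.1).1 ?_).2
      have hgx : conjPair x (⟨R, g⟩ : BrauerPairIdx G) = ⟨R, g⟩ :=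
        (mem_pairStab (a := (⟨R, g⟩ : BrauerPairIdx G)) hg.1.2).1
          ((mem_pairStab_iff_stabilizesBlock (a := (⟨R, g⟩ : BrauerPairIdx G)) hg.1.2).2 ⟨hxR, hst⟩)
      have h1 := pairLE_conj (p := p) (M := M) (a := (⟨Q, f⟩ : BrauerPairIdx G))
        (b := (⟨R, g⟩ : BrauerPairIdx G)) hf.2 x
      rw [hgx] at h1
      exact pairLE_unique hM (b := (⟨R, g⟩ : BrauerPairIdx G)) hg.1 h1 hf.2
        (map_conj_eq_iff_mem_normalizer.2 hxQ)
    obtain ⟨ξ, hξ⟩ := Blocks.isPBlock_nonempty hf.1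
    obtain ⟨θ, hθ⟩ := Blocks.Covering.exists_constituent (N := inter N Q) ξ
    have hmem := mem_stabK N Q hM hidx hf.1 hξ hθ hxN hxQ hfst hreg
    have hx' : (⟨x, hxN⟩ : N) ∈ Subgroup.normalizer ((Q.subgroupOf N : Subgroup N) : Set N) := by
      refine Subgroup.mem_normalizer_iff.2 fun k => ?_
      simp only [Subgroup.mem_subgroupOf]
      exact Subgroup.mem_normalizer_iff.1 hxQ (k : G)
    have hstN := (stabilizes_iff_mem_stabK hQN (Blocks.isPBlock_blockOf (M := M) θ) ⟨x, hxN⟩ hxQ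
      (BrauerMap.normalizer_le_normalizer_centralizer' _ hx')).2 hmem
    have hQp : IsPGroup p Q := hQf.1.1
    have hpair : IsBrauerPair p M (Q.subgroupOf N)
        (Chars.irrCongr (interEquiv hQN).symm '' blockOf M (θ : ↥(inter N Q) → ℂ)) :=
      ⟨hQp.of_equiv (Subgroup.subgroupOfEquivOfLe hQN).symm,
        BrauerMap.isPBlock_image_irrCongr _ (Blocks.isPBlock_blockOf θ)⟩
    have hpairOf : IsBrauerPairOf p M c (Q.subgroupOf N)
        (Chars.irrCongr (interEquiv hQN).symm '' blockOf M (θ : ↥(inter N Q) → ℂ)) := by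
      refine ⟨hpair, hc, fun η hη => ?_⟩
      rw [BrauerMap.brHom_blockIdem_eq_one_iff hM hpair.1 hc,
        BrauerMap.brHom_eq_of_sameBlock hM hpair.1 (Blocks.sameBlock_of_mem hpair.2 hη
          ⟨θ, Blocks.mem_blockOf_self θ, rfl⟩)]
      refine (BrauerMap.brHom_blockIdem_eq_one_iff hM hpair.1 hc _).1 ?_
      rw [← brauerOmega_eq hQN hBc hθ]
      exact hQf.2.2 ξ hξ
    have hcen := hnil.2 _ _ hpairOf ⟨x, hxN⟩ hx' hstN
      (by rwa [IsPRegular, ← Subgroup.orderOf_coe])
    -- `x` centralizes `R ∩ N` and `R/(R ∩ N)`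
    refine Subgroup.mem_centralizer_iff.2 fun r hr => ?_
    have hrQ : ∀ r ∈ R, r⁻¹ * x * r * x⁻¹ ∈ Q := by
      intro r hr
      refine ⟨?_, ?_⟩
      · have h := R.mul_mem (R.inv_mem hr) ((Subgroup.mem_normalizer_iff.1 hxR r).1 hr)
        simpa [mul_assoc] using h
      · have h1 : r⁻¹ * x * r ∈ N := by
          simpa using (inferInstance : N.Normal).conj_mem x hxN r⁻¹
        exact N.mul_mem h1 (N.inv_mem hxN)
    set q := r⁻¹ * x * r * x⁻¹ with hqdef
    have hq : q ∈ Q := hrQ r hr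
    have hqx : Commute q x := congrArg Subtype.val (Subgroup.mem_centralizer_iff.1 hcen
      (⟨q, hQN hq⟩ : N) (Subgroup.mem_subgroupOf.2 hq))
    have h1 : q ^ orderOf x = 1 := by
      have e : (q * x) ^ orderOf x = 1 := by
        rw [show q * x = r⁻¹ * x * r by simp [q], show r⁻¹ * x * r = r⁻¹ * x * r⁻¹⁻¹ by simp,
          conj_pow, pow_orderOf_eq_one]
        simp
      rwa [hqx.mul_pow, pow_orderOf_eq_one, mul_one] at e
    obtain ⟨j, hj⟩ := hQp ⟨q, hq⟩
    have h2 : q ^ p ^ j = 1 := congrArg Subtype.val hj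
    have h3 : orderOf q ∣ 1 := by
      have := Nat.dvd_gcd (orderOf_dvd_of_pow_eq_one h2) (orderOf_dvd_of_pow_eq_one h1)
      rwa [Nat.Coprime.gcd_eq_one (Nat.Coprime.pow_left j (hM.1.coprime_iff_not_dvd.2 hreg))] at this
    have hq1 : q = 1 := orderOf_eq_one_iff.1 (Nat.dvd_one.1 h3)
    calc r * x = r * (q * x) := by rw [hq1, one_mul]
      _ = x * r := by simp [q, mul_assoc]
  · intro hnil
    refine ⟨hc, fun R' e hpair x hxR hst hreg => ?_⟩
    obtain ⟨Q, hQN, rfl⟩ : ∃ Q : Subgroup G, Q ≤ N ∧ Q.subgroupOf N = R' :=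
      ⟨R'.map N.subtype, Subgroup.map_subtype_le _,
        Subgroup.comap_map_eq_self_of_injective N.subtype_injective R'⟩
    have hxQ : (x : G) ∈ Subgroup.normalizer (Q : Set G) := by
      refine Subgroup.mem_normalizer_iff.2 fun k => ?_
      constructor
      · intro hk
        exact (Subgroup.mem_normalizer_iff.1 hxR ⟨k, hQN hk⟩).1 hk
      · intro hk
        have hkN : k ∈ N := by
          have := (inferInstance : N.Normal).conj_mem _ (hQN hk) (x : G)⁻¹
          simpa [mul_assoc] using this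
        exact (Subgroup.mem_normalizer_iff.1 hxR ⟨k, hkN⟩).2 hk
    set eK := Chars.irrCongr (interEquiv hQN) '' e with heK
    have heKb : IsPBlock M eK := BrauerMap.isPBlock_image_irrCongr _ hpair.1.2
    obtain ⟨θ, hθe⟩ := Blocks.isPBlock_nonempty heKb
    obtain ⟨η, hη, hηθ⟩ := hθe
    obtain ⟨ξ, hξ⟩ : ∃ ξ : IrrCharacter (Subgroup.centralizer (Q : Set G)),
        classInner (resFun (inter N Q) (ξ : ↥(Subgroup.centralizer (Q : Set G)) → ℂ))
          (θ : ↥(inter N Q) → ℂ) ≠ 0 := by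
      by_contra hno
      push Not at hno
      have hz := Chars.eq_zero_of_forall_classInner_eq_zero
        (f := indFun (inter N Q) (θ : ↥(inter N Q) → ℂ)) (Chars.isClassFunction_indFun _ _) fun ξ => by
          rw [Chars.classInner_indFun_left _ _ _ (Chars.irr_isClassFunction ξ),
            ← Chars.conj_classInner]
          exact (congrArg conj (hno ξ)).trans (map_zero _)
      have h1 := congrFun hz 1
      rw [Chars.indFun_one_eq, Pi.zero_apply, mul_eq_zero, Nat.cast_eq_zero] at h1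
      exact h1.elim Subgroup.index_ne_zero_of_finite (Chars.irr_apply_one_ne_zero θ)
    have hQp : IsPGroup p Q :=
      hpair.1.1.of_equiv (Subgroup.subgroupOfEquivOfLe hQN)
    have hη' : Chars.irrCongr (interEquiv hQN).symm θ = η := by
      rw [← hηθ]
      exact Subtype.ext (funext fun k => by simp [BrauerMap.irrCongr_apply])
    have hpairB : IsBrauerPairOf p M B Q
        (blockOf M (ξ : ↥(Subgroup.centralizer (Q : Set G)) → ℂ)) := by
      refine isBrauerPairOf_of_congr_one hM hB hQp ξ ?_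
      rw [brauerOmega_eq hQN hBc hξ, hη']
      exact hpair.2.2 η hη
    have hx' := BrauerMap.normalizer_le_normalizer_centralizer' _ hxR
    have hxC := BrauerMap.normalizer_le_normalizer_centralizer' Q hxQ
    have himg : Chars.irrCongr (interEquiv hQN).symm '' eK = e := by
      rw [heK, Set.image_image]
      refine (Set.image_congr' fun η => Subtype.ext (funext fun k => ?_)).trans (Set.image_id _)
      simp [BrauerMap.irrCongr_apply]
    obtain ⟨_, hstK⟩ := (stabilizes_iff_mem_stabK hQN heKb x hxQ hx').1 (himg.symm ▸ hst)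
    have hθK : Chars.irrCongr (tau N Q (x : G) hxQ) θ ∈ eK := hstK ▸ ⟨θ, ⟨η, hη, hηθ⟩, rfl⟩
    have hcon : classInner (resFun (inter N Q)
        (Chars.irrCongr (BrauerMap.conjEquiv (x : G) hxC) ξ : ↥(Subgroup.centralizer (Q : Set G)) → ℂ))
        (Chars.irrCongr (tau N Q (x : G) hxQ) θ : ↥(inter N Q) → ℂ) ≠ 0 := by
      have heq : classInner (resFun (inter N Q)
          (Chars.irrCongr (BrauerMap.conjEquiv (x : G) hxC) ξ : ↥(Subgroup.centralizer (Q : Set G)) → ℂ))
          (Chars.irrCongr (tau N Q (x : G) hxQ) θ : ↥(inter N Q) → ℂ) =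
          classInner (resFun (inter N Q) (ξ : ↥(Subgroup.centralizer (Q : Set G)) → ℂ))
            (θ : ↥(inter N Q) → ℂ) := by
        simp only [classInner]
        congr 1
        exact Fintype.sum_equiv (tau N Q (x : G) hxQ).toEquiv _ _ fun k => rfl
      rwa [heq]
    have hidx' : ∃ k : ℕ, (inter N Q).index = p ^ k := by
      obtain ⟨k, hk⟩ := hidx
      have hd : (inter N Q).index ∣ p ^ k := hk ▸ Subgroup.relIndex_dvd_index_of_normal N _
      obtain ⟨i, -, hi⟩ := (Nat.dvd_prime_pow hM.1).1 hd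
      exact ⟨i, hi⟩
    have hstB : StabilizesBlock (Subgroup.centralizer (Q : Set G))
        (blockOf M (ξ : ↥(Subgroup.centralizer (Q : Set G)) → ℂ)) (x : G) := by
      rw [BrauerMap.stabilizesBlock_iff (Blocks.isPBlock_blockOf ξ)]
      refine ⟨hxC, Blocks.isPBlock_eq_of_mem (BrauerMap.isPBlock_image_irrCongr _
        (Blocks.isPBlock_blockOf ξ)) (Blocks.isPBlock_blockOf ξ)
        ⟨ξ, Blocks.mem_blockOf_self ξ, rfl⟩ ?_⟩
      exact Blocks.mem_blockOf.2 (Blocks.Covering.sameBlock_of_common_block hM hidx'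
        (Blocks.sameBlock_of_mem heKb ⟨η, hη, hηθ⟩ hθK) hξ hcon)
    have hcen := hnil.2 Q _ hpairB (x : G) hxQ hstB (by rwa [IsPRegular, Subgroup.orderOf_coe])
    exact Subgroup.mem_centralizer_iff.2 fun r hr =>
      Subtype.ext (Subgroup.mem_centralizer_iff.1 hcen (r : G) hr)

end Cfsg.Agent.Lib.BrauerPairs.PPowerCover
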